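import Mathlib
import Cfsg.Agent.SylowFifteen.Small

/-!
Groups with 22 Sylow 3-subgroups: the general set-up and the Sylow 11-normaliser.
-/

set_option autoImplicit false

namespace Cfsg.Agent.Fg24.TwentyTwo

variable {G : Type*} [Group G] [Finite G]

/-- The reduced situation. -/
structure Ctx (G : Type*) [Group G] : Prop where
  n22 : Nat.card (Sylow 3 G) = 22
  faith : ∀ g : G, (∀ Q : Sylow 3 G, g • Q = Q) → g = 1
  gen : ∀ H : Subgroup G, (∀ P : Sylow 3 G, (P : Subgroup G) ≤ H) → H = ⊤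

theorem mem_of_fix {Q : Sylow 3 G} {z : G} {k : ℕ} (hz : z ^ 3 ^ k = 1) (h : z • Q = Q) :
    z ∈ (Q : Subgroup G) := by
  have hp : IsPGroup 3 (Subgroup.zpowers z) := by
    rintro ⟨w, i, rfl⟩
    refine ⟨k, Subtype.ext ?_⟩
    push_cast
    rw [← zpow_natCast, ← zpow_mul, mul_comm, zpow_mul, zpow_natCast, hz, one_zpow]
  have h1 : z ∈ Subgroup.zpowers z ⊓ Subgroup.normalizer (Q : Set G) :=
    ⟨Subgroup.mem_zpowers z, Sylow.smul_eq_iff_mem_normalizer.1 h⟩
  rw [hp.inf_normalizer_sylow] at h1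
  exact h1.2

theorem fix_of_mem {Q : Sylow 3 G} {z : G} (hz : z ∈ (Q : Subgroup G)) : z • Q = Q :=
  Sylow.smul_eq_iff_mem_normalizer.2 (Subgroup.le_normalizer hz)

theorem pow_three_of_mem (Q : Sylow 3 G) {z : G} (hz : z ∈ (Q : Subgroup G)) : ∃ k, z ^ 3 ^ k = 1 := by
  obtain ⟨k, hk⟩ := Q.isPGroup' ⟨z, hz⟩
  exact ⟨k, by simpa using congrArg Subtype.val hk⟩

theorem hom_trivial (hc : Ctx G) {A : Type*} [CommGroup A] [Finite A] (hA : ¬ 3 ∣ Nat.card A)
    (f : G →* A) (g : G) : f g = 1 := by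
  have hker : f.ker = ⊤ := hc.gen _ fun P z hz => by
    obtain ⟨k, hk⟩ := pow_three_of_mem P hz
    rw [MonoidHom.mem_ker, ← orderOf_eq_one_iff]
    refine Nat.eq_one_of_dvd_coprimes ?_ (orderOf_dvd_natCard (f z))
      (orderOf_dvd_of_pow_eq_one (by rw [← map_pow, hk, map_one]))
    exact (Nat.Coprime.pow_left k ((Nat.prime_three.coprime_iff_not_dvd).2 hA)).symm
  exact MonoidHom.mem_ker.1 (hker ▸ Subgroup.mem_top g)

theorem sign_eq_one (hc : Ctx G) [Fintype (Sylow 3 G)] [DecidableEq (Sylow 3 G)] (g : G) :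
    Equiv.Perm.sign (MulAction.toPermHom G (Sylow 3 G) g) = 1 := by
  refine hom_trivial hc ?_ (Equiv.Perm.sign.comp (MulAction.toPermHom G (Sylow 3 G))) g
  rw [Nat.card_eq_fintype_card, Fintype.card_units_int]
  norm_num

theorem eq_one_of_pow_perm (hc : Ctx G) {g : G} (h : MulAction.toPermHom G (Sylow 3 G) g = 1) :
    g = 1 :=
  hc.faith g fun Q => by simpa using congrArg (fun e : Equiv.Perm (Sylow 3 G) => e Q) h

theorem toPerm_injective (hc : Ctx G) : Function.Injective (MulAction.toPermHom G (Sylow 3 G)) :=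
  (injective_iff_map_eq_one _).2 fun _ => eq_one_of_pow_perm hc

/-- An element of prime order permuting an invariant finite set fixes a congruent number of
points. -/
theorem fix_modEq {X : Type*} [MulAction G X] [Finite X] (q : ℕ) [Fact q.Prime] (y : G)
    (hy : y ^ q = 1) (s : Set X) (hs : ∀ x ∈ s, y • x ∈ s) :
    s.ncard ≡ {x ∈ s | y • x = x}.ncard [MOD q] := by
  classical
  have hpow : ∀ (n : ℕ) x, x ∈ s → y ^ n • x ∈ s := by
    intro n
    induction n with
    | zero => intro x hx; simpa using hx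
    | succ n ih => intro x hx; rw [pow_succ', mul_smul]; exact hs _ (ih x hx)
  let M : SubMulAction (Subgroup.zpowers y) X :=
    { carrier := s
      smul_mem' := by
        rintro ⟨c, hc⟩ x hx
        obtain ⟨n, rfl⟩ := mem_powers_iff_mem_zpowers.2 hc
        exact hpow n x hx }
  have hp : IsPGroup q (Subgroup.zpowers y) := by
    rintro ⟨w, i, rfl⟩
    refine ⟨1, Subtype.ext ?_⟩
    push_cast
    rw [pow_one, ← zpow_natCast, ← zpow_mul, mul_comm, zpow_mul, zpow_natCast, hy, one_zpow]
  have key := hp.card_modEq_card_fixedPoints M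
  have h1 : Nat.card M = s.ncard := Nat.card_coe_set_eq s
  have h2 : Nat.card (MulAction.fixedPoints (Subgroup.zpowers y) M) =
      {x ∈ s | y • x = x}.ncard := by
    rw [← Nat.card_coe_set_eq]
    refine Nat.card_congr ⟨fun x => ⟨(x.1 : X), x.1.2, congrArg (fun m : M => (m : X))
      (x.2 ⟨y, Subgroup.mem_zpowers y⟩)⟩, fun x => ⟨⟨x.1, x.2.1⟩, ?_⟩, fun x => rfl, fun x => rfl⟩
    rintro ⟨c, hc⟩
    obtain ⟨n, rfl⟩ := mem_powers_iff_mem_zpowers.2 hc
    refine Subtype.ext ?_
    show y ^ n • x.1 = x.1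
    induction n with
    | zero => simp
    | succ n ih => rw [pow_succ, mul_smul, x.2.2, ih (Subgroup.npow_mem_zpowers _ _)]
  rwa [h1, h2] at key

/-- The fixed points of `y` on all 22 Sylow subgroups. -/
theorem fix_modEq_22 (hc : Ctx G) (q : ℕ) [Fact q.Prime] (y : G) (hy : y ^ q = 1) :
    22 ≡ {Q : Sylow 3 G | y • Q = Q}.ncard [MOD q] := by
  have h := fix_modEq q y hy (Set.univ : Set (Sylow 3 G)) fun _ _ => trivial
  simpa [Set.ncard_univ, hc.n22] using h

theorem fix_le_22 (hc : Ctx G) (y : G) : {Q : Sylow 3 G | y • Q = Q}.ncard ≤ 22 :=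
  (Set.ncard_le_ncard (Set.subset_univ _)).trans_eq (by rw [Set.ncard_univ, hc.n22])

theorem eq_one_of_fix_22 (hc : Ctx G) {y : G} (h : {Q : Sylow 3 G | y • Q = Q}.ncard = 22) :
    y = 1 := by
  refine hc.faith y fun Q => ?_
  have : {Q : Sylow 3 G | y • Q = Q} = Set.univ := by
    refine Set.eq_of_subset_of_ncard_le (Set.subset_univ _) ?_
    rw [h, Set.ncard_univ, hc.n22]
  exact (this ▸ Set.mem_univ Q : Q ∈ {Q : Sylow 3 G | y • Q = Q})

/-- An involution moves a number of points divisible by 4. -/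
theorem involution_moved (hc : Ctx G) {w : G} (hw : w ^ 2 = 1) :
    4 ∣ 22 - {Q : Sylow 3 G | w • Q = Q}.ncard := by
  classical
  have := Fintype.ofFinite (Sylow 3 G)
  rcases eq_or_ne w 1 with rfl | hne
  · rw [show {Q : Sylow 3 G | (1 : G) • Q = Q} = Set.univ by simp, Set.ncard_univ, hc.n22]
    norm_num
  set W := MulAction.toPermHom G (Sylow 3 G) w with hW
  have ho : orderOf W = 2 := orderOf_eq_prime (by rw [hW, ← map_pow, hw, map_one])
    fun h => hne (eq_one_of_pow_perm hc h)
  obtain ⟨n, hn⟩ := Equiv.Perm.cycleType_prime_order (σ := W) (by rw [ho]; exact Nat.prime_two)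
  rw [ho] at hn
  have hsum := W.sum_cycleType
  rw [hn, Multiset.sum_replicate, smul_eq_mul] at hsum
  have hs := sign_eq_one hc w
  rw [← hW, Equiv.Perm.sign_of_cycleType, hn, Multiset.sum_replicate, Multiset.card_replicate,
    smul_eq_mul] at hs
  have hev : Even ((n + 1) * 2 + (n + 1)) := by
    by_contra hodd
    rw [Nat.not_even_iff_odd] at hodd
    rw [hodd.neg_one_pow] at hs
    exact absurd hs (by decide)
  have hfix : {Q : Sylow 3 G | w • Q = Q} = ((W.support : Set (Sylow 3 G)))ᶜ := by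
    ext Q
    simp [hW]
  rw [hfix, Set.ncard_compl, Set.ncard_coe_finset, hc.n22, ← hsum]
  have hle : (n + 1) * 2 ≤ 22 := by
    rw [hsum, ← hc.n22, Nat.card_eq_fintype_card]; exact Finset.card_le_univ _
  rw [Nat.even_iff] at hev
  omega

theorem card_eq_mul_normalizer (hc : Ctx G) (P : Sylow 3 G) :
    Nat.card G = 22 * Nat.card (Subgroup.normalizer ((P : Subgroup G) : Set G)) := by
  haveI : Fact (Nat.Prime 3) := ⟨Nat.prime_three⟩
  rw [← hc.n22, Sylow.card_eq_index_normalizer P]
  exact (Subgroup.index_mul_card _).symm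

/-- An element commuting with an element of order 11. -/
theorem eq_one_of_commute_eleven (hc : Ctx G) {x u : G} (hx : x ^ 11 = 1)
    (hfree : ∀ Q : Sylow 3 G, x • Q ≠ Q) {q : ℕ} (hq : q.Prime) (hq11 : q ≠ 11) (hu : u ^ q = 1)
    (hcomm : Commute x u) : u = 1 := by
  haveI : Fact (Nat.Prime 11) := ⟨by norm_num⟩
  haveI := Fact.mk hq
  set s := {Q : Sylow 3 G | u • Q = Q}
  have hinv : ∀ Q ∈ s, x • Q ∈ s := fun Q (hQ : u • Q = Q) => by
    show u • x • Q = x • Q
    rw [← mul_smul, ← hcomm.eq, mul_smul, hQ]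
  have h := fix_modEq 11 x hx s hinv
  rw [show {Q ∈ s | x • Q = Q} = (∅ : Set (Sylow 3 G)) from
    Set.eq_empty_iff_forall_notMem.2 fun Q hQ => hfree Q hQ.2, Set.ncard_empty,
    Nat.modEq_zero_iff_dvd] at h
  have hle := fix_le_22 hc u
  have hmod := fix_modEq_22 hc q u hu
  obtain ⟨c, hcs⟩ := h
  by_cases h22 : s.ncard = 22
  · exact eq_one_of_fix_22 hc h22
  exfalso
  have hle' : s.ncard ≤ 22 := hle
  have hc' : c = 0 ∨ c = 1 := by omega
  rcases hc' with rfl | rfl
  · have hd : q ∣ 2 * 11 := by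
      rw [show s.ncard = 0 by omega] at hmod
      simpa [Nat.modEq_zero_iff_dvd] using hmod
    rcases (Nat.Prime.dvd_mul hq).1 hd with h2 | h11
    · have hq2 : q = 2 := (Nat.prime_dvd_prime_iff_eq hq Nat.prime_two).1 h2
      subst hq2
      have h4 := involution_moved hc hu
      rw [show {Q : Sylow 3 G | u • Q = Q}.ncard = 0 by omega] at h4
      norm_num at h4
    · exact hq11 ((Nat.prime_dvd_prime_iff_eq hq (by norm_num)).1 h11)
  · rw [show s.ncard = 11 by omega] at hmod
    have hd : q ∣ 22 - 11 := (Nat.modEq_iff_dvd' (by norm_num)).1 hmod.symm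
    exact hq11 ((Nat.prime_dvd_prime_iff_eq hq (by norm_num)).1 hd)

/-- The normaliser of a Sylow 11-subgroup. -/
theorem eleven (hc : Ctx G) (P : Sylow 3 G)
    (hN : ¬ 11 ∣ Nat.card (Subgroup.normalizer ((P : Subgroup G) : Set G))) :
    ∃ (E : Sylow 11 G) (d : ℕ), (d = 2 ∨ d = 5 ∨ d = 10) ∧ Nat.card (E : Subgroup G) = 11 ∧
      Nat.card (Subgroup.normalizer ((E : Subgroup G) : Set G)) = 11 * d ∧
      Subgroup.centralizer ((E : Subgroup G) : Set G) = E ∧
      Nat.card (Sylow 11 G) * d = 2 * Nat.card (Subgroup.normalizer ((P : Subgroup G) : Set G)) ∧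
      Nat.card (Sylow 11 G) % 11 = 1 := by
  haveI : Fact (Nat.Prime 11) := ⟨by norm_num⟩
  haveI : Fact (Nat.Prime 3) := ⟨Nat.prime_three⟩
  have h11 : Nat.Prime 11 := Fact.out
  have hG := card_eq_mul_normalizer hc P
  have hfree : ∀ x : G, orderOf x = 11 → ∀ Q : Sylow 3 G, x • Q ≠ Q := by
    intro x hx Q hQ
    apply hN
    have h1 : Nat.card (Subgroup.normalizer ((Q : Subgroup G) : Set G)) =
        Nat.card (Subgroup.normalizer ((P : Subgroup G) : Set G)) := by
      have h := card_eq_mul_normalizer hc Q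
      omega
    rw [← h1, ← hx]
    exact Subgroup.orderOf_dvd_natCard _ (Sylow.smul_eq_iff_mem_normalizer.1 hQ)
  obtain ⟨E⟩ := (inferInstance : Nonempty (Sylow 11 G))
  have hE : Nat.card (E : Subgroup G) = 11 := by
    have hdvd : 11 ∣ Nat.card G := by rw [hG]; exact Dvd.dvd.mul_right (by norm_num) _
    have hpos : 0 < Nat.card (Subgroup.normalizer ((P : Subgroup G) : Set G)) := Nat.card_pos
    have hf : (Nat.card G).factorization 11 = 1 := by
      rw [hG, Nat.factorization_mul (by norm_num) hpos.ne', Finsupp.coe_add, Pi.add_apply,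
        Nat.factorization_eq_zero_of_not_dvd hN, add_zero, show (22 : ℕ) = 11 * 2 from rfl,
        Nat.factorization_mul (by norm_num) (by norm_num), Finsupp.coe_add, Pi.add_apply,
        h11.factorization_self, Nat.factorization_eq_zero_of_not_dvd (by norm_num)]
    rw [Sylow.card_eq_multiplicity, hf, pow_one]
  haveI hEc : IsCyclic (E : Subgroup G) := isCyclic_of_prime_card hE
  obtain ⟨x, hxE, hxo⟩ : ∃ x ∈ (E : Subgroup G), orderOf x = 11 := by
    obtain ⟨x, hx⟩ := IsCyclic.exists_generator (α := (E : Subgroup G))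
    exact ⟨x, x.2, by rw [Subgroup.orderOf_coe, orderOf_eq_card_of_forall_mem_zpowers hx, hE]⟩
  set C := Subgroup.centralizer ((E : Subgroup G) : Set G) with hCdef
  set N := Subgroup.normalizer ((E : Subgroup G) : Set G) with hNdef
  have hEC : (E : Subgroup G) ≤ C := Subgroup.le_centralizer_iff_isMulCommutative.2 inferInstance
  have hCp : ∀ q : ℕ, q.Prime → q ∣ Nat.card C → q = 11 := by
    intro q hq hqd
    by_contra hne
    haveI := Fact.mk hq
    obtain ⟨⟨u, huC⟩, hu⟩ := exists_prime_orderOf_dvd_card' (G := C) q hqd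
    rw [Subgroup.orderOf_mk] at hu
    have hcomm : Commute x u := Subgroup.mem_centralizer_iff.1 huC x hxE
    have := eq_one_of_commute_eleven hc (by rw [← hxo, pow_orderOf_eq_one]) (hfree x hxo) hq hne
      (by rw [← hu, pow_orderOf_eq_one]) hcomm
    rw [this, orderOf_one] at hu
    exact hq.one_lt.ne hu
  have hCE : C = E := by
    have hCpg : IsPGroup 11 C := by
      refine IsPGroup.of_card (n := (Nat.card C).primeFactorsList.length) ?_
      exact Nat.eq_prime_pow_of_unique_prime_dvd Nat.card_pos.ne' fun {q} hq hqd => hCp q hq hqd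
    exact E.3 hCpg hEC
  have hCN : C ≤ N := Subgroup.centralizer_le_normalizer _
  have hrel : C.relIndex N ∣ 10 := by
    have key := Subgroup.card_dvd_of_injective _
      (QuotientGroup.kerLift_injective (E : Subgroup G).normalizerMonoidHom)
    rw [Subgroup.normalizerMonoidHom_ker, ← Subgroup.index, ← Subgroup.relIndex, hEc.card_mulAut,
      hE, Nat.totient_prime h11] at key
    exact key
  have hNcard : Nat.card N = 11 * C.relIndex N := by
    rw [← Subgroup.relIndex_bot_left N, ← Subgroup.relIndex_mul_relIndex ⊥ C N bot_le hCN,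
      Subgroup.relIndex_bot_left, hCE, hE]
  have hd1 : C.relIndex N ≠ 1 := by
    intro h1
    rw [Subgroup.relIndex_eq_one] at h1
    let f := MonoidHom.transferSylow E h1
    haveI : IsMulCommutative (E : Subgroup G) := inferInstance
    have hcompl := MonoidHom.ker_transferSylow_isComplement' E h1
    have hker : f.ker = ⊤ := by
      refine hc.gen _ fun Q z hz => ?_
      obtain ⟨k, hk⟩ := pow_three_of_mem Q hz
      rw [MonoidHom.mem_ker, ← orderOf_eq_one_iff]
      refine Nat.eq_one_of_dvd_coprimes ?_ (orderOf_dvd_natCard (f z))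
        (orderOf_dvd_of_pow_eq_one (by rw [← map_pow, hk, map_one]))
      rw [hE]
      exact (Nat.Coprime.pow_left k (by norm_num : Nat.Coprime 3 11)).symm
    have := hcompl.card_mul
    rw [show (MonoidHom.transferSylow E h1).ker = ⊤ from hker, Subgroup.card_top, hE] at this
    have hpos := Nat.card_pos (α := G)
    omega
  refine ⟨E, C.relIndex N, ?_, hE, hNcard, hCE, ?_, ?_⟩
  · have := Nat.le_of_dvd (by norm_num) hrel
    interval_cases h : C.relIndex N <;> omega
  · have h : Nat.card (Sylow 11 G) = N.index := Sylow.card_eq_index_normalizer E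
    have h2 := Subgroup.index_mul_card N
    rw [← h, hNcard, hG] at h2
    have h3 : 11 * (Nat.card (Sylow 11 G) * C.relIndex N) =
        11 * (2 * Nat.card (Subgroup.normalizer ((P : Subgroup G) : Set G))) := by
      linarith
    exact Nat.eq_of_mul_eq_mul_left (by norm_num) h3
  · exact card_sylow_modEq_one 11 G

end Cfsg.Agent.Fg24.TwentyTwo
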