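import Mathlib
import Cfsg.Agent.Fg24.TwentyTwo.Setup
import Cfsg.Agent.S1009

/-!
Groups with 22 Sylow 3-subgroups: the orbit structure of a Sylow 3-subgroup on the 22 subgroups.
-/

set_option autoImplicit false

namespace Cfsg.Agent.Fg24.TwentyTwo

variable {G : Type*} [Group G] [Finite G]

/-- The length of the orbit of `Q` under `P`. -/
noncomputable def idx (P Q : Sylow 3 G) : ℕ := ((Q : Subgroup G).subgroupOf (P : Subgroup G)).index

/-- The neighbours of `P`. -/
def nbr (P : Sylow 3 G) : Set (Sylow 3 G) := {Q | idx P Q = 3}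

/-- The far points of `P`. -/
def far (P : Sylow 3 G) : Set (Sylow 3 G) := {Q | idx P Q = 9}

/-- The line through two neighbours. -/
def line (P Q : Sylow 3 G) : Set (Sylow 3 G) :=
  {R | (P : Subgroup G) ⊓ (Q : Subgroup G) ≤ (R : Subgroup G)}

theorem idx_eq_orbit (P Q : Sylow 3 G) :
    Nat.card (MulAction.orbit (P : Subgroup G) Q) = idx P Q := by
  have hst : MulAction.stabilizer ↥(P : Subgroup G) Q = (Q : Subgroup G).subgroupOf P := by
    ext x
    rw [MulAction.mem_stabilizer_iff]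
    change ((x : G) • Q = Q) ↔ _
    rw [Subgroup.mem_subgroupOf]
    constructor
    · intro hx
      obtain ⟨k, hk⟩ := pow_three_of_mem P x.2
      exact mem_of_fix hk hx
    · exact fix_of_mem
  rw [idx, ← hst, MulAction.index_stabilizer, Nat.card_coe_set_eq]

theorem idx_mul (P Q : Sylow 3 G) :
    idx P Q * Nat.card ↥((P : Subgroup G) ⊓ (Q : Subgroup G)) = Nat.card (P : Subgroup G) := by
  have h : Nat.card ((Q : Subgroup G).subgroupOf (P : Subgroup G)) =
      Nat.card ↥((P : Subgroup G) ⊓ (Q : Subgroup G)) := by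
    rw [← Subgroup.inf_subgroupOf_left]
    exact Nat.card_congr (Subgroup.subgroupOfEquivOfLe inf_le_left).toEquiv
  rw [idx, ← h, Subgroup.index_mul_card]

theorem card_sylow_eq (P Q : Sylow 3 G) : Nat.card (P : Subgroup G) = Nat.card (Q : Subgroup G) := by
  haveI : Fact (Nat.Prime 3) := ⟨Nat.prime_three⟩
  exact Nat.card_congr (Sylow.equiv P Q).toEquiv

theorem idx_comm (P Q : Sylow 3 G) : idx P Q = idx Q P := by
  have h1 := idx_mul P Q
  have h2 := idx_mul Q P
  rw [inf_comm, card_sylow_eq Q P, ← h1] at h2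
  exact (Nat.eq_of_mul_eq_mul_right Nat.card_pos h2).symm

theorem idx_smul (g : G) (P Q : Sylow 3 G) : idx (g • P) (g • Q) = idx P Q := by
  have h1 := idx_mul P Q
  have h2 := idx_mul (g • P) (g • Q)
  rw [card_sylow_eq (g • P) P, ← h1, Sylow.coe_subgroup_smul, Sylow.coe_subgroup_smul,
    ← Subgroup.smul_inf, ← Nat.card_congr (Subgroup.equivSMul (MulAut.conj g) _).toEquiv] at h2
  exact Nat.eq_of_mul_eq_mul_right Nat.card_pos h2

theorem idx_eq_one {P Q : Sylow 3 G} : idx P Q = 1 ↔ P = Q := by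
  rw [idx, Subgroup.index_eq_one, Subgroup.subgroupOf_eq_top]
  exact ⟨fun h => (Sylow.ext (P.3 Q.2 h)).symm, fun h => h ▸ le_rfl⟩

theorem idx_cases (hc : Ctx G) {P Q : Sylow 3 G} (h : P ≠ Q) : idx P Q = 3 ∨ idx P Q = 9 := by
  haveI : Fact (Nat.Prime 3) := ⟨Nat.prime_three⟩
  obtain ⟨k, hk⟩ := P.isPGroup'.index ((Q : Subgroup G).subgroupOf (P : Subgroup G))
  have hle : idx P Q ≤ 22 := by
    rw [← idx_eq_orbit, ← hc.n22]
    exact Nat.card_le_card_of_injective _ Subtype.val_injective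
  have hne : idx P Q ≠ 1 := fun e => h (idx_eq_one.1 e)
  unfold idx at hne hle ⊢
  rw [hk] at hne hle ⊢
  match k with
  | 0 => exact absurd rfl hne
  | 1 => exact Or.inl rfl
  | 2 => exact Or.inr rfl
  | k + 3 =>
    have : 3 ^ 3 ≤ 3 ^ (k + 3) := Nat.pow_le_pow_right (by norm_num) (by omega)
    omega

theorem dvd_ncard_of_fibres {X Y : Type*} [Finite X] (n : ℕ) (s : Set X) (f : X → Y)
    (h : ∀ x ∈ s, {y ∈ s | f y = f x}.ncard = n) : n ∣ s.ncard := by
  classical
  have := Fintype.ofFinite X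
  rw [Set.ncard_eq_toFinset_card', Finset.card_eq_sum_card_image f]
  refine Finset.dvd_sum fun b hb => ?_
  obtain ⟨x, hx, rfl⟩ := Finset.mem_image.1 hb
  refine dvd_of_eq ?_
  rw [← h x (Set.mem_toFinset.1 hx), Set.ncard_eq_toFinset_card']
  congr 1
  ext y
  simp

theorem mem_nbr {P Q : Sylow 3 G} : Q ∈ nbr P ↔ idx P Q = 3 := Iff.rfl

theorem mem_far {P Q : Sylow 3 G} : Q ∈ far P ↔ idx P Q = 9 := Iff.rfl

theorem smul_P {P : Sylow 3 G} (x : (P : Subgroup G)) : (x : G) • P = P := fix_of_mem x.2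

theorem dvd_idx_set (P : Sylow 3 G) (n : ℕ) : n ∣ {Q | idx P Q = n}.ncard := by
  refine dvd_ncard_of_fibres n _ (fun Q => MulAction.orbit (P : Subgroup G) Q) fun Q hQ => ?_
  conv_rhs => rw [← (show idx P Q = n from hQ), ← idx_eq_orbit, Nat.card_coe_set_eq]
  congr 1
  ext R
  constructor
  · rintro ⟨-, hR⟩
    show R ∈ MulAction.orbit (P : Subgroup G) Q
    rw [← show MulAction.orbit (P : Subgroup G) R = MulAction.orbit (P : Subgroup G) Q from hR]
    exact MulAction.mem_orbit_self R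
  · intro hR
    refine ⟨?_, MulAction.orbit_eq_iff.2 hR⟩
    show idx P R = n
    rw [← idx_eq_orbit, MulAction.orbit_eq_iff.2 hR, idx_eq_orbit]
    exact hQ

theorem card_nbr_far (hc : Ctx G) (P : Sylow 3 G) :
    (nbr P).ncard + (far P).ncard = 21 ∧ 3 ∣ (nbr P).ncard ∧ 9 ∣ (far P).ncard := by
  refine ⟨?_, dvd_idx_set P 3, dvd_idx_set P 9⟩
  have hdisj : Disjoint (nbr P) (far P) := by
    rw [Set.disjoint_left]
    intro Q h1 h2
    rw [mem_nbr] at h1
    rw [mem_far, h1] at h2
    norm_num at h2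
  have hu : nbr P ∪ far P = {P}ᶜ := by
    ext Q
    rw [Set.mem_union, mem_nbr, mem_far, Set.mem_compl_iff, Set.mem_singleton_iff]
    constructor
    · rintro h rfl
      rw [idx_eq_one.2 rfl] at h
      norm_num at h
    · intro h
      exact idx_cases hc fun e => h e.symm
  rw [← Set.ncard_union_eq hdisj, hu, Set.ncard_compl, Set.ncard_singleton, hc.n22]

theorem ncard_nbr_smul (g : G) (P : Sylow 3 G) : (nbr (g • P)).ncard = (nbr P).ncard := by
  have : nbr (g • P) = (fun Q => g • Q) '' nbr P := by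
    ext Q
    rw [mem_nbr]
    constructor
    · intro h
      refine ⟨g⁻¹ • Q, ?_, smul_inv_smul g Q⟩
      rw [mem_nbr, ← idx_smul g, smul_inv_smul]
      exact h
    · rintro ⟨R, hR, rfl⟩
      rw [idx_smul]
      exact hR
  rw [this, Set.ncard_image_of_injective _ (MulAction.injective g)]

theorem ncard_nbr_eq (P Q : Sylow 3 G) : (nbr P).ncard = (nbr Q).ncard := by
  haveI : Fact (Nat.Prime 3) := ⟨Nat.prime_three⟩
  obtain ⟨g, rfl⟩ := MulAction.exists_smul_eq G P Q
  rw [ncard_nbr_smul]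

theorem inter_normal {P Q : Sylow 3 G} (h : idx P Q = 3) :
    ((Q : Subgroup G).subgroupOf (P : Subgroup G)).Normal := by
  haveI : Fact (Nat.Prime 3) := ⟨Nat.prime_three⟩
  apply Subgroup.normal_of_index_eq_minFac_card
  obtain ⟨k, hk⟩ := IsPGroup.iff_card.1 P.isPGroup'
  change idx P Q = _
  rw [h, hk, Nat.prime_three.pow_minFac]
  rintro rfl
  have h1 := idx_mul P Q
  rw [h, hk, pow_zero] at h1
  omega

theorem line_left (P Q : Sylow 3 G) : P ∈ line P Q :=
  (inf_le_left : (P : Subgroup G) ⊓ (Q : Subgroup G) ≤ P)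

theorem line_right (P Q : Sylow 3 G) : Q ∈ line P Q :=
  (inf_le_right : (P : Subgroup G) ⊓ (Q : Subgroup G) ≤ Q)

/-- Any two distinct points of a line are neighbours determining it. -/
theorem line_pair (hc : Ctx G) {P Q R R' : Sylow 3 G} (h : idx P Q = 3) (hR : R ∈ line P Q)
    (hR' : R' ∈ line P Q) (hne : R ≠ R') :
    idx R R' = 3 ∧ (R : Subgroup G) ⊓ (R' : Subgroup G) = (P : Subgroup G) ⊓ (Q : Subgroup G) ∧
      line R R' = line P Q := by
  have hle : (P : Subgroup G) ⊓ (Q : Subgroup G) ≤ (R : Subgroup G) ⊓ (R' : Subgroup G) :=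
    le_inf hR hR'
  have h1 := idx_mul P Q
  have h2 := idx_mul R R'
  rw [h] at h1
  rw [card_sylow_eq R P, ← h1] at h2
  have hcard := Subgroup.card_le_of_le hle
  have hpos : 0 < Nat.card ↥((P : Subgroup G) ⊓ (Q : Subgroup G)) := Nat.card_pos
  have h3 : idx R R' = 3 := by
    rcases idx_cases hc hne with h' | h'
    · exact h'
    · rw [h'] at h2; omega
  rw [h3] at h2
  have heq : (R : Subgroup G) ⊓ (R' : Subgroup G) = (P : Subgroup G) ⊓ (Q : Subgroup G) :=
    (Subgroup.eq_of_le_of_card_ge hle (by omega)).symm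
  exact ⟨h3, heq, Set.ext fun S => by
    show (R : Subgroup G) ⊓ (R' : Subgroup G) ≤ (S : Subgroup G) ↔
      (P : Subgroup G) ⊓ (Q : Subgroup G) ≤ (S : Subgroup G)
    rw [heq]⟩

/-- `P` moves `Q` inside their line. -/
theorem smul_mem_line {P Q : Sylow 3 G} (h : idx P Q = 3) {R : Sylow 3 G} (hR : R ∈ line P Q)
    (x : G) (hx : x ∈ (P : Subgroup G)) : x • R ∈ line P Q := by
  intro z hz
  have hn := inter_normal h
  have h1 := hn.conj_mem ⟨z, hz.1⟩ hz.2 ⟨x⁻¹, Subgroup.inv_mem _ hx⟩
  rw [Subgroup.mem_subgroupOf] at h1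
  simp only [Subgroup.coe_mul, InvMemClass.coe_inv, inv_inv] at h1
  rw [Sylow.coe_subgroup_smul, Subgroup.mem_pointwise_smul_iff_inv_smul_mem]
  have h2 : x⁻¹ * z * x ∈ (P : Subgroup G) ⊓ (Q : Subgroup G) :=
    ⟨mul_mem (mul_mem ((Subgroup.inv_mem _ hx)) hz.1) hx, h1⟩
  simpa [MulAut.smul_def] using hR h2

theorem orbit_subset_line {P Q : Sylow 3 G} (h : idx P Q = 3) :
    insert P (MulAction.orbit (P : Subgroup G) Q) ⊆ line P Q := by
  rintro R (rfl | ⟨x, rfl⟩)
  · exact line_left _ _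
  · exact smul_mem_line h (line_right P Q) x x.2

theorem not_mem_orbit_self {P Q : Sylow 3 G} (h : idx P Q ≠ 1) :
    P ∉ MulAction.orbit (P : Subgroup G) Q := by
  rintro ⟨x, hx⟩
  apply h
  rw [idx_eq_one]
  have hx' : (x : G) • Q = P := hx
  have : (x : G) • Q = (x : G) • P := by rw [hx', smul_P x]
  exact (MulAction.injective (x : G) this).symm

theorem ncard_insert_orbit {P Q : Sylow 3 G} (h : idx P Q = 3) :
    (insert P (MulAction.orbit (P : Subgroup G) Q)).ncard = 4 := by
  rw [Set.ncard_insert_of_notMem (not_mem_orbit_self (by omega)), ← Nat.card_coe_set_eq,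
    idx_eq_orbit, h]

/-- A transitive neighbour relation gives a partition. -/
theorem not_transitive (hc : Ctx G) {a : ℕ} (ha : ∀ P : Sylow 3 G, (nbr P).ncard = a)
    (ha22 : ¬ (a + 1) ∣ 22)
    (htr : ∀ P Q R : Sylow 3 G, idx P Q = 3 → idx Q R = 3 → P = R ∨ idx P R = 3) : False := by
  apply ha22
  rw [← hc.n22, ← Set.ncard_univ]
  refine dvd_ncard_of_fibres (a + 1) Set.univ (fun P => insert P (nbr P)) fun P _ => ?_
  have : {Q ∈ (Set.univ : Set (Sylow 3 G)) | insert Q (nbr Q) = insert P (nbr P)} =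
      insert P (nbr P) := by
    ext Q
    constructor
    · rintro ⟨-, hQ⟩
      rw [← hQ]
      exact Set.mem_insert Q _
    · intro hQ
      refine ⟨trivial, ?_⟩
      rcases hQ with rfl | hQ
      · rfl
      rw [mem_nbr] at hQ
      ext R
      simp only [Set.mem_insert_iff, mem_nbr]
      constructor
      · rintro (rfl | hR)
        · exact Or.inr hQ
        · rcases htr P Q R hQ hR with h | h
          · exact Or.inl h.symm
          · exact Or.inr h
      · rintro (rfl | hR)
        · exact Or.inr (by rw [idx_comm]; exact hQ)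
        · rcases htr Q P R (by rw [idx_comm]; exact hQ) hR with h | h
          · exact Or.inl h.symm
          · exact Or.inr h
  rw [this, Set.ncard_insert_of_notMem, ha]
  rw [mem_nbr, idx_eq_one.2 rfl]
  norm_num

theorem nbr_ne_three (hc : Ctx G) (P₀ : Sylow 3 G) : (nbr P₀).ncard ≠ 3 := by
  intro h3
  have ha : ∀ P : Sylow 3 G, (nbr P).ncard = 3 := fun P => (ncard_nbr_eq P P₀).trans h3
  refine not_transitive hc ha (by norm_num) fun P Q R hPQ hQR => ?_
  -- the neighbours of `Q` form a single orbit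
  have hQP : idx Q P = 3 := by rw [idx_comm]; exact hPQ
  have hsub : MulAction.orbit (Q : Subgroup G) P ⊆ nbr Q := by
    intro S hS
    rw [mem_nbr, ← idx_eq_orbit, MulAction.orbit_eq_iff.2 hS, idx_eq_orbit]
    exact hQP
  have heq := Set.eq_of_subset_of_ncard_le hsub (by rw [ha Q, ← Nat.card_coe_set_eq, idx_eq_orbit, hQP])
  have hR : R ∈ line Q P := orbit_subset_line hQP (Set.mem_insert_of_mem _ (heq ▸ hQR))
  rcases eq_or_ne P R with h | h
  · exact Or.inl h
  · exact Or.inr (line_pair hc hQP (line_right Q P) hR h).1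

/-- In the mixed case every line has four points. -/
theorem line_card (hc : Ctx G) (ha : ∀ P : Sylow 3 G, (nbr P).ncard = 12) {P Q : Sylow 3 G}
    (h : idx P Q = 3) : (line P Q).ncard = 4 := by
  classical
  set s := (line P Q).ncard with hs
  have h4 : 4 ≤ s := by
    rw [← ncard_insert_orbit h]
    exact Set.ncard_le_ncard (orbit_subset_line h)
  have h13 : s ≤ 13 := by
    have hsub : line P Q ⊆ insert P (nbr P) := by
      intro R hR
      rcases eq_or_ne P R with e | e
      · exact Or.inl e.symm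
      · exact Or.inr (line_pair hc h (line_left P Q) hR e).1
    have := Set.ncard_le_ncard hsub
    rw [Set.ncard_insert_of_notMem (by rw [mem_nbr, idx_eq_one.2 rfl]; norm_num), ha] at this
    exact this
  -- `s - 1` is a multiple of three
  have h3 : 3 ∣ s - 1 := by
    rw [hs, ← Set.ncard_sdiff_singleton_of_mem (line_left P Q)]
    refine dvd_ncard_of_fibres 3 _ (fun R => MulAction.orbit (P : Subgroup G) R) fun R hR => ?_
    have hne : P ≠ R := fun e => hR.2 e.symm
    obtain ⟨hR3, -, hlR⟩ := line_pair hc h (line_left P Q) hR.1 hne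
    conv_rhs => rw [← hR3, ← idx_eq_orbit, Nat.card_coe_set_eq]
    congr 1
    ext S
    constructor
    · rintro ⟨-, hS⟩
      show S ∈ MulAction.orbit (P : Subgroup G) R
      rw [← show MulAction.orbit (P : Subgroup G) S = MulAction.orbit (P : Subgroup G) R from hS]
      exact MulAction.mem_orbit_self S
    · intro hS
      refine ⟨⟨?_, fun e => ?_⟩, MulAction.orbit_eq_iff.2 hS⟩
      · rw [← hlR]; exact orbit_subset_line hR3 (Set.mem_insert_of_mem _ hS)
      · have hSP : S = P := e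
        exact not_mem_orbit_self (by rw [hR3]; norm_num) (hSP ▸ hS)
  by_contra hne
  -- the number of pairs with line of this size
  let T : Sylow 3 G → Set (Sylow 3 G) := fun A => {B | idx A B = 3 ∧ (line A B).ncard = s}
  have hTc : ∀ A : Sylow 3 G, (T A).ncard = (T P).ncard := by
    intro A
    haveI : Fact (Nat.Prime 3) := ⟨Nat.prime_three⟩
    obtain ⟨g, rfl⟩ := MulAction.exists_smul_eq G P A
    have hl : ∀ B, (line (g • P) (g • B)).ncard = (line P B).ncard := by
      intro B
      have : line (g • P) (g • B) = (fun R => g • R) '' line P B := by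
        ext R
        simp only [line, Set.mem_image, Set.mem_setOf_eq]
        constructor
        · intro hR
          refine ⟨g⁻¹ • R, ?_, smul_inv_smul g R⟩
          rw [Sylow.coe_subgroup_smul, Sylow.coe_subgroup_smul, ← Subgroup.smul_inf,
            Subgroup.pointwise_smul_subset_iff] at hR
          rwa [Sylow.coe_subgroup_smul, map_inv]
        · rintro ⟨S, hS, rfl⟩
          rw [Sylow.coe_subgroup_smul, Sylow.coe_subgroup_smul, Sylow.coe_subgroup_smul,
            ← Subgroup.smul_inf, Subgroup.pointwise_smul_le_pointwise_smul_iff]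
          exact hS
      rw [this, Set.ncard_image_of_injective _ (MulAction.injective g)]
    have : T (g • P) = (fun R => g • R) '' T P := by
      ext R
      constructor
      · rintro ⟨h1, h2⟩
        refine ⟨g⁻¹ • R, ⟨?_, ?_⟩, smul_inv_smul g R⟩
        · rw [← idx_smul g, smul_inv_smul]; exact h1
        · rw [← hl, smul_inv_smul]; exact h2
      · rintro ⟨S, ⟨h1, h2⟩, rfl⟩
        exact ⟨by rw [idx_smul]; exact h1, by rw [hl]; exact h2⟩
    rw [this, Set.ncard_image_of_injective _ (MulAction.injective g)]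
  let X : Set (Sylow 3 G × Sylow 3 G) := {p | p.2 ∈ T p.1}
  have hX : X.ncard = 22 * (T P).ncard := by
    have _hft := Fintype.ofFinite (Sylow 3 G)
    rw [Set.ncard_eq_toFinset_card',
      Finset.card_eq_sum_card_fiberwise (f := Prod.fst) (t := Finset.univ) (fun _ _ => Finset.mem_univ _)]
    rw [← hc.n22, Nat.card_eq_fintype_card, ← Finset.card_univ, ← smul_eq_mul, ← Finset.sum_const]
    refine Finset.sum_congr rfl fun A _ => ?_
    rw [← hTc A, Set.ncard_eq_toFinset_card']
    refine Finset.card_bij (fun p _ => p.2) ?_ ?_ ?_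
    · rintro ⟨a, b⟩ hp
      simp only [Finset.mem_filter, Set.mem_toFinset] at hp ⊢
      exact hp.2 ▸ hp.1
    · rintro ⟨a, b⟩ hp ⟨c, d⟩ hq (e : b = d)
      simp only [Finset.mem_filter, Set.mem_toFinset] at hp hq
      exact Prod.ext (hp.2.trans hq.2.symm) e
    · intro B hB
      exact ⟨(A, B), by simpa [X] using hB, rfl⟩
  have hdvd : s * (s - 1) ∣ X.ncard := by
    refine dvd_ncard_of_fibres _ X (fun p => line p.1 p.2) fun p hp => ?_
    obtain ⟨hp3, hps⟩ := hp
    have : {q ∈ X | line q.1 q.2 = line p.1 p.2} =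
        ((line p.1 p.2 ×ˢ line p.1 p.2) \ {q | q.1 = q.2}) := by
      ext ⟨a, b⟩
      simp only [Set.mem_setOf_eq, Set.mem_sdiff, Set.mem_prod]
      constructor
      · rintro ⟨⟨hab, -⟩, hl⟩
        refine ⟨⟨hl ▸ line_left a b, hl ▸ line_right a b⟩, fun e => ?_⟩
        rw [idx_eq_one.2 e] at hab
        norm_num at hab
      · rintro ⟨⟨ha', hb'⟩, hab⟩
        obtain ⟨h1, -, h2⟩ := line_pair hc hp3 ha' hb' hab
        exact ⟨⟨h1, by rw [h2]; exact hps⟩, h2⟩
    have _hft := Fintype.ofFinite (Sylow 3 G)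
    rw [this, ← hps]
    have hoff : ((line p.1 p.2 ×ˢ line p.1 p.2) \ {q | q.1 = q.2}) = (line p.1 p.2).offDiag := by
      ext q; simp [Set.mem_offDiag, and_assoc]
    rw [hoff, Set.ncard_eq_toFinset_card', Set.toFinset_offDiag, Finset.offDiag_card,
      Set.ncard_eq_toFinset_card', Nat.mul_sub_one]
  have hT12 : (T P).ncard ≤ 12 := by
    rw [← ha P]
    exact Set.ncard_le_ncard fun B hB => hB.1
  have hT1 : 0 < (T P).ncard := (Set.ncard_pos).2 ⟨Q, h, rfl⟩
  rw [hX] at hdvd
  obtain ⟨t, ht⟩ := h3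
  have ht' : s = 3 * t + 1 := by omega
  have : t = 2 ∨ t = 3 ∨ t = 4 := by omega
  obtain ⟨u, hu⟩ := hdvd
  rcases this with rfl | rfl | rfl <;> rw [ht'] at hu <;> norm_num at hu <;> omega

/-- In the mixed case the common kernel of the orbits on the neighbours is trivial. -/
theorem kernel_trivial (hc : Ctx G) (ha : ∀ P : Sylow 3 G, (nbr P).ncard = 12) (P : Sylow 3 G)
    {e : G} (he : e ∈ (P : Subgroup G)) (hfix : ∀ Q ∈ nbr P, e ∈ (Q : Subgroup G)) : e = 1 := by
  classical
  by_contra hne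
  set a := nbr P
  -- the whole kernel
  let E : Subgroup G := (P : Subgroup G) ⊓ ⨅ Q ∈ a, (Q : Subgroup G)
  have hEa : ∀ z ∈ E, ∀ Q ∈ a, z ∈ (Q : Subgroup G) := fun z hz Q hQ =>
    (Subgroup.mem_iInf.1 (Subgroup.mem_iInf.1 hz.2 Q)) hQ
  have heE : e ∈ E := ⟨he, Subgroup.mem_iInf.2 fun Q => Subgroup.mem_iInf.2 fun hQ => hfix Q hQ⟩
  have hEn : ∀ x ∈ (P : Subgroup G), ∀ z ∈ E, x⁻¹ * z * x ∈ E := by
    intro x hx z hz
    refine ⟨mul_mem (mul_mem ((Subgroup.inv_mem _ hx)) hz.1) hx, ?_⟩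
    refine Subgroup.mem_iInf.2 fun Q => Subgroup.mem_iInf.2 fun hQ => ?_
    have h1 := hEa z hz (x • Q) (by
      rw [mem_nbr, ← fix_of_mem hx, idx_smul]; exact hQ)
    rw [Sylow.coe_subgroup_smul, Subgroup.mem_pointwise_smul_iff_inv_smul_mem] at h1
    simpa [MulAut.smul_def] using h1
  have hfar : (far P).ncard = 9 := by
    have := (card_nbr_far hc P).1
    rw [ha P] at this
    omega
  -- every far point is moved
  have hmove : ∀ R ∈ far P, ∃ z ∈ E, z • R ≠ R := by
    intro R hR
    by_contra hall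
    push Not at hall
    have horb : MulAction.orbit (P : Subgroup G) R = far P := by
      refine Set.eq_of_subset_of_ncard_le (fun S hS => ?_) ?_
      · rw [mem_far, ← idx_eq_orbit, MulAction.orbit_eq_iff.2 hS, idx_eq_orbit]; exact hR
      · rw [hfar, ← Nat.card_coe_set_eq, idx_eq_orbit]; exact (show idx P R = 9 from hR).ge
    refine hne (hc.faith e fun S => ?_)
    rcases eq_or_ne P S with rfl | hPS
    · exact fix_of_mem he
    rcases idx_cases hc hPS with h | h
    · exact fix_of_mem (hfix S h)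
    · obtain ⟨x, hx⟩ : S ∈ MulAction.orbit (P : Subgroup G) R := horb ▸ h
      have hx' : (x : G) • R = S := hx
      have h1 := hall _ (hEn x x.2 e heE)
      rw [← hx']
      calc e • (x : G) • R = (x : G) • (((x : G)⁻¹ * e * x) • R) := by
            rw [← mul_smul, ← mul_smul]; congr 1; group
        _ = (x : G) • R := by rw [h1]
  -- a line from a neighbour to a far point has just one neighbour of `P`
  have huniq : ∀ R ∈ far P, ∀ Q ∈ a, ∀ Q' ∈ a, idx Q R = 3 → idx Q' R = 3 → Q = Q' := by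
    intro R hR Q hQ Q' hQ' h1 h2
    by_contra hQQ
    obtain ⟨z, hz, hzR⟩ := hmove R hR
    obtain ⟨k, hk⟩ := pow_three_of_mem P hz.1
    have hz2 : (z * z) • R ≠ R := by
      intro h
      apply hzR
      have hz' : z ∈ Subgroup.zpowers (z * z) := by
        obtain ⟨m, hm⟩ : Odd (3 ^ k) := (by decide : Odd 3).pow
        refine ⟨(m + 1 : ℕ), ?_⟩
        simp only [zpow_natCast]
        rw [← sq, ← pow_mul, show 2 * (m + 1) = 3 ^ k + 1 by omega, pow_succ, hk, one_mul]
      obtain ⟨i, hi⟩ := hz'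
      rw [← hi]
      exact MulAction.mem_stabilizer_iff.1
        (zpow_mem (MulAction.mem_stabilizer_iff.2 h : z * z ∈ MulAction.stabilizer G R) i)
    have hzR2 : z • R ≠ (z * z) • R := fun h => hzR ((MulAction.injective z (h.trans (mul_smul z z R))).symm)
    have hl : line Q R = line Q' R := by
      obtain ⟨-, -, e1⟩ := line_pair hc h1 (line_right Q R)
        (smul_mem_line h1 (line_right Q R) z (hEa z hz Q hQ)) hzR.symm
      obtain ⟨-, -, e2⟩ := line_pair hc h2 (line_right Q' R)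
        (smul_mem_line h2 (line_right Q' R) z (hEa z hz Q' hQ')) hzR.symm
      rw [← e1, e2]
    have hsub : ({Q, Q', R, z • R, (z * z) • R} : Set (Sylow 3 G)) ⊆ line Q R := by
      intro S hS
      simp only [Set.mem_insert_iff, Set.mem_singleton_iff] at hS
      rcases hS with rfl | rfl | rfl | rfl | rfl
      · exact line_left _ _
      · rw [hl]; exact line_left _ _
      · exact line_right _ _
      · exact smul_mem_line h1 (line_right Q R) z (hEa z hz Q hQ)
      · exact smul_mem_line h1 (line_right Q R) _ (mul_mem (hEa z hz Q hQ) (hEa z hz Q hQ))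
    have hle := Set.ncard_le_ncard hsub
    rw [line_card hc ha h1] at hle
    have hnb : ∀ (A : Sylow 3 G), A ∈ a → ∀ w ∈ E, A ≠ w • R := by
      intro A hA w hw hAw
      rw [mem_far, ← idx_smul w, fix_of_mem hw.1, ← hAw] at hR
      rw [mem_nbr, hR] at hA
      norm_num at hA
    have q1 : Q ≠ R := fun h => hnb Q hQ 1 (one_mem E) (by rw [one_smul]; exact h)
    have q2 : Q' ≠ R := fun h => hnb Q' hQ' 1 (one_mem E) (by rw [one_smul]; exact h)
    rw [Set.ncard_insert_of_notMem (by
        simp only [Set.mem_insert_iff, Set.mem_singleton_iff, not_or]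
        exact ⟨hQQ, q1, hnb Q hQ z hz, hnb Q hQ _ (mul_mem hz hz)⟩),
      Set.ncard_insert_of_notMem (by
        simp only [Set.mem_insert_iff, Set.mem_singleton_iff, not_or]
        exact ⟨q2, hnb Q' hQ' z hz, hnb Q' hQ' _ (mul_mem hz hz)⟩),
      Set.ncard_insert_of_notMem (by
        simp only [Set.mem_insert_iff, Set.mem_singleton_iff, not_or]
        exact ⟨hzR.symm, hz2.symm⟩),
      Set.ncard_pair hzR2] at hle
    omega
  -- counting
  let Xs : Set (Sylow 3 G × Sylow 3 G) :=
    {p | p.1 ∈ a ∧ idx p.1 p.2 = 3 ∧ p.2 ∉ line P p.1}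
  have hXs : Xs.ncard = 108 := by
    have _hft := Fintype.ofFinite (Sylow 3 G)
    rw [Set.ncard_eq_toFinset_card',
      Finset.card_eq_sum_card_fiberwise (f := Prod.fst) (t := a.toFinset) (fun p hp => by
        simp only [Finset.mem_coe, Set.mem_toFinset] at hp ⊢; exact hp.1)]
    rw [Finset.sum_const_nat (m := 9), ← Set.ncard_eq_toFinset_card', ha P]
    intro Q hQ
    rw [Set.mem_toFinset] at hQ
    have h1 : (nbr Q \ line P Q).ncard = 9 := by
      have hsub : line P Q \ {Q} ⊆ nbr Q := fun S hS =>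
        (line_pair hc hQ (line_right P Q) hS.1 (fun h => hS.2 h.symm)).1
      have : nbr Q \ line P Q = nbr Q \ (line P Q \ {Q}) := by
        ext S
        simp only [Set.mem_sdiff, Set.mem_singleton_iff, not_and, not_not, mem_nbr]
        constructor
        · rintro ⟨h1, h2⟩; exact ⟨h1, fun h => absurd h h2⟩
        · rintro ⟨h1, h2⟩
          refine ⟨h1, fun h => ?_⟩
          rw [h2 h, idx_eq_one.2 rfl] at h1
          norm_num at h1
      rw [this, Set.ncard_sdiff hsub, ha Q, Set.ncard_sdiff_singleton_of_mem (line_right P Q),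
        line_card hc ha hQ]
    rw [← h1, Set.ncard_eq_toFinset_card']
    refine Finset.card_bij (fun p _ => p.2) ?_ ?_ ?_
    · rintro ⟨x, y⟩ hp
      simp only [Finset.mem_filter, Set.mem_toFinset] at hp ⊢
      obtain ⟨⟨-, h2, h3⟩, rfl⟩ := hp
      exact ⟨h2, h3⟩
    · rintro ⟨x, y⟩ hp ⟨x', y'⟩ hq (h : y = y')
      simp only [Finset.mem_filter, Set.mem_toFinset] at hp hq
      exact Prod.ext (hp.2.trans hq.2.symm) h
    · intro S hS
      simp only [Set.mem_toFinset] at hS
      refine ⟨(Q, S), ?_, rfl⟩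
      simp only [Finset.mem_filter, Set.mem_toFinset]
      exact ⟨⟨hQ, hS.1, hS.2⟩, trivial⟩
  set Xb := {p ∈ Xs | p.2 ∈ far P} with hXb
  have hXb9 : Xb.ncard ≤ 9 := by
    rw [← hfar]
    refine Set.ncard_le_ncard_of_injOn Prod.snd (fun p hp => hp.2) ?_
    rintro ⟨x, y⟩ hp ⟨x', y'⟩ hq (h : y = y')
    subst h
    exact Prod.ext (huniq y hp.2 x hp.1.1 x' hq.1.1 hp.1.2.1 hq.1.2.1) rfl
  have hP2 : ∀ p ∈ Xs, p.2 ≠ P := fun p hp h => hp.2.2 (h ▸ line_left P p.1)
  have hrest : 12 ∣ (Xs \ Xb).ncard := by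
    refine dvd_ncard_of_fibres 12 _ (fun p => line p.1 p.2) fun p hp => ?_
    obtain ⟨⟨hp1, hp3, hpl⟩, hpb⟩ := hp
    have hp2 : p.2 ∈ a := by
      rcases idx_cases hc (hP2 p ⟨hp1, hp3, hpl⟩).symm with h | h
      · exact h
      · exact absurd ⟨⟨hp1, hp3, hpl⟩, h⟩ hpb
    set L := line p.1 p.2
    have hPL : P ∉ L := by
      intro hPL
      obtain ⟨-, -, h⟩ := line_pair hc hp3 hPL (line_left p.1 p.2) (fun h => by
        rw [mem_nbr, idx_eq_one.2 h] at hp1; norm_num at hp1)
      exact hpl (by rw [h]; exact line_right p.1 p.2)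
    have hLa : ∀ S ∈ L, S ∈ a := by
      intro S hS
      rcases idx_cases hc (show P ≠ S from fun h => hPL (h ▸ hS)) with h | h
      · exact h
      · exfalso
        have hne1 : p.1 ≠ p.2 := fun e => by rw [idx_eq_one.2 e] at hp3; norm_num at hp3
        refine hne1 (huniq S h p.1 hp1 p.2 hp2 ?_ ?_)
        · exact (line_pair hc hp3 (line_left _ _) hS (fun e => by
            rw [mem_nbr, e, h] at hp1; norm_num at hp1)).1
        · exact (line_pair hc hp3 (line_right _ _) hS (fun e => by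
            rw [mem_nbr, e, h] at hp2; norm_num at hp2)).1
    have hfib : {q ∈ Xs \ Xb | line q.1 q.2 = line p.1 p.2} = L.offDiag := by
      ext ⟨x, y⟩
      simp only [Set.mem_setOf_eq, Set.mem_offDiag]
      constructor
      · rintro ⟨⟨⟨-, h3, -⟩, -⟩, hl⟩
        refine ⟨?_, ?_, fun e => ?_⟩
        · show x ∈ line p.1 p.2
          rw [← hl]; exact line_left x y
        · show y ∈ line p.1 p.2
          rw [← hl]; exact line_right x y
        · rw [idx_eq_one.2 e] at h3; norm_num at h3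
      · rintro ⟨hx, hy, hxy⟩
        obtain ⟨h3, -, hl⟩ := line_pair hc hp3 hx hy hxy
        refine ⟨⟨⟨hLa x hx, h3, ?_⟩, fun h => ?_⟩, hl⟩
        · intro hyl
          obtain ⟨-, -, h⟩ := line_pair hc (show idx P x = 3 from hLa x hx) (line_right P x) hyl hxy
          apply hPL
          show P ∈ line p.1 p.2
          rw [← hl, h]
          exact line_left P x
        · have h1 : idx P y = 9 := h.2
          rw [show idx P y = 3 from hLa y hy] at h1
          norm_num at h1
    rw [hfib]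
    have _hft := Fintype.ofFinite (Sylow 3 G)
    have hcard := line_card hc ha hp3
    rw [Set.ncard_eq_toFinset_card'] at hcard
    rw [Set.ncard_eq_toFinset_card', Set.toFinset_offDiag, Finset.offDiag_card, hcard]
  have hsplit := Set.ncard_sdiff_add_ncard_of_subset (s := Xb) (t := Xs) (fun p hp => hp.1)
  rw [hXs] at hsplit
  have hXb0 : Xb.ncard = 0 := by obtain ⟨t, ht⟩ := hrest; omega
  have hempty : ∀ Q ∈ a, ∀ R ∈ far P, idx Q R ≠ 3 := by
    intro Q hQ R hR h
    have hmem : (Q, R) ∈ Xb := ⟨⟨hQ, h, fun hl => by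
      have := (line_pair hc hQ (line_left P Q) hl (fun e => by
        rw [mem_far, idx_eq_one.2 e] at hR; norm_num at hR)).1
      rw [mem_far, this] at hR
      norm_num at hR⟩, hR⟩
    exact (Set.ncard_pos).2 ⟨_, hmem⟩ |>.ne' hXb0
  refine not_transitive hc ha (by norm_num) fun A B C hAB hBC => ?_
  haveI : Fact (Nat.Prime 3) := ⟨Nat.prime_three⟩
  obtain ⟨g, rfl⟩ := MulAction.exists_smul_eq G P A
  by_contra h
  push Not at h
  obtain ⟨hne1, hne3⟩ := h
  have h9 := (idx_cases hc hne1).resolve_left hne3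
  refine hempty (g⁻¹ • B) ?_ (g⁻¹ • C) ?_ ?_
  · rw [mem_nbr, ← idx_smul g, smul_inv_smul]; exact hAB
  · rw [mem_far, ← idx_smul g, smul_inv_smul]; exact h9
  · rw [idx_smul]; exact hBC

theorem pCore_trivial (hc : Ctx G) : ⨅ R : Sylow 3 G, (R : Subgroup G) = ⊥ := by
  rw [eq_bot_iff]
  intro z hz
  rw [Subgroup.mem_iInf] at hz
  exact Subgroup.mem_bot.2 (hc.faith z fun Q => fix_of_mem (hz Q))

theorem nbr_mem_of_cube {P Q : Sylow 3 G} (h : idx P Q = 3) {x y : G} (hx : x ∈ (P : Subgroup G))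
    (hy : y ∈ (P : Subgroup G)) : x ^ 3 ∈ (Q : Subgroup G) ∧ x * y * x⁻¹ * y⁻¹ ∈ (Q : Subgroup G) := by
  haveI := inter_normal h
  haveI : Fact (Nat.Prime 3) := ⟨Nat.prime_three⟩
  have hi : ((Q : Subgroup G).subgroupOf (P : Subgroup G)).index = 3 := h
  refine ⟨?_, ?_⟩
  · have h1 := Subgroup.pow_index_mem ((Q : Subgroup G).subgroupOf (P : Subgroup G)) ⟨x, hx⟩
    rw [hi] at h1
    simpa [Subgroup.mem_subgroupOf] using h1
  · haveI : IsCyclic (↥(P : Subgroup G) ⧸ (Q : Subgroup G).subgroupOf P) :=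
      isCyclic_of_prime_card (p := 3) (by rw [← Subgroup.index_eq_card]; exact hi)
    letI := IsCyclic.commGroup (α := ↥(P : Subgroup G) ⧸ (Q : Subgroup G).subgroupOf P)
    have h1 : (⟨x, hx⟩ * ⟨y, hy⟩ * (⟨x, hx⟩)⁻¹ * (⟨y, hy⟩)⁻¹ : ↥(P : Subgroup G)) ∈
        (Q : Subgroup G).subgroupOf P := by
      rw [← QuotientGroup.eq_one_iff]
      push_cast [QuotientGroup.mk_mul, QuotientGroup.mk_inv]
      simp [mul_comm]
    simpa [Subgroup.mem_subgroupOf] using h1

/-- The possible orbit structures. -/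
theorem shape (hc : Ctx G) (P : Sylow 3 G) :
    (∀ Q : Sylow 3 G, Nat.card (Q : Subgroup G) = 3) ∨
    ((∀ Q : Sylow 3 G, Nat.card (Q : Subgroup G) = 9 ∧ IsMulCommutative (Q : Subgroup G) ∧
      (∀ z ∈ (Q : Subgroup G), z ^ 3 = 1) ∧ (nbr Q).ncard = 12 ∧ (far Q).ncard = 9)) := by
  haveI : Fact (Nat.Prime 3) := ⟨Nat.prime_three⟩
  obtain ⟨hsum, ⟨a, ha⟩, ⟨b, hb⟩⟩ := card_nbr_far hc P
  have hcases : (nbr P).ncard = 21 ∨ (nbr P).ncard = 3 ∨ (nbr P).ncard = 12 := by omega
  rcases hcases with h21 | h3 | h12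
  · left
    have hadj : ∀ A B : Sylow 3 G, A ≠ B → idx A B = 3 := by
      intro A B hAB
      rcases idx_cases hc hAB with h | h
      · exact h
      · exfalso
        have h1 := (card_nbr_far hc A).1
        rw [ncard_nbr_eq A P, h21] at h1
        have : 0 < (far A).ncard := (Set.ncard_pos).2 ⟨B, h⟩
        omega
    have hab : ∀ A : Sylow 3 G, IsMulCommutative (A : Subgroup G) := by
      intro A
      refine ⟨⟨fun x y => Subtype.ext ?_⟩⟩
      have : (x : G) * y * (x : G)⁻¹ * (y : G)⁻¹ ∈ ⨅ R : Sylow 3 G, (R : Subgroup G) := by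
        rw [Subgroup.mem_iInf]
        intro B
        by_cases hAB : A = B
        · exact hAB ▸ mul_mem (mul_mem (mul_mem x.2 y.2) (inv_mem x.2)) (inv_mem y.2)
        · exact (nbr_mem_of_cube (hadj A B hAB) x.2 y.2).2
      rw [pCore_trivial hc, Subgroup.mem_bot] at this
      exact commutatorElement_eq_one_iff_mul_comm.1 this
    obtain ⟨A, B, hAB⟩ := Cfsg.Agent.S1009.result 3 hab
    rw [pCore_trivial hc] at hAB
    intro Q
    have h := idx_mul A B
    rw [hAB, Subgroup.card_bot, mul_one] at h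
    rw [card_sylow_eq Q A, ← h]
    refine hadj A B fun e => ?_
    subst e
    rw [inf_idem] at hAB
    have hA1 : Nat.card (A : Subgroup G) = 1 := by rw [hAB, Subgroup.card_bot]
    obtain ⟨C, hC⟩ : ∃ C, A ≠ C := by
      haveI : Nontrivial (Sylow 3 G) := Finite.one_lt_card_iff_nontrivial.1 (by rw [hc.n22]; norm_num)
      obtain ⟨C, hC⟩ := exists_ne A
      exact ⟨C, hC.symm⟩
    have hm := idx_mul A C
    rw [hadj A C hC, hA1] at hm
    omega
  · exact absurd h3 (nbr_ne_three hc P)
  · right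
    have ha' : ∀ A : Sylow 3 G, (nbr A).ncard = 12 := fun A => (ncard_nbr_eq A P).trans h12
    have hfar : ∀ A : Sylow 3 G, (far A).ncard = 9 := fun A => by
      have := (card_nbr_far hc A).1
      rw [ha' A] at this
      omega
    have hab : ∀ A : Sylow 3 G, IsMulCommutative (A : Subgroup G) := by
      intro A
      refine ⟨⟨fun x y => Subtype.ext ?_⟩⟩
      refine commutatorElement_eq_one_iff_mul_comm.1 (kernel_trivial hc ha' A
        (mul_mem (mul_mem (mul_mem x.2 y.2) (inv_mem x.2)) (inv_mem y.2)) fun B hB => ?_)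
      exact (nbr_mem_of_cube hB x.2 y.2).2
    intro Q
    refine ⟨?_, hab Q, fun z hz => kernel_trivial hc ha' Q (pow_mem hz 3)
      fun B hB => (nbr_mem_of_cube hB hz hz).1, ha' Q, hfar Q⟩
    obtain ⟨A, B, hAB⟩ := Cfsg.Agent.S1009.result 3 hab
    rw [pCore_trivial hc] at hAB
    obtain ⟨R, hR⟩ : (far A).Nonempty := (Set.ncard_pos).1 (by rw [hfar A]; norm_num)
    have h9 := idx_mul A R
    rw [show idx A R = 9 from hR] at h9
    have h := idx_mul A B
    rw [hAB, Subgroup.card_bot, mul_one] at h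
    rw [card_sylow_eq Q A, ← h]
    have hpos := Nat.card_pos (α := ↥((A : Subgroup G) ⊓ (R : Subgroup G)))
    rcases eq_or_ne A B with e | e
    · rw [idx_eq_one.2 e] at h ⊢; omega
    rcases idx_cases hc e with h' | h'
    · rw [h'] at h; omega
    · exact h'

end Cfsg.Agent.Fg24.TwentyTwo
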