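import Mathlib
import Cfsg.Agent.Fg24.TwentyTwo.Shape

/-!
Groups with 22 Sylow 3-subgroups: the case of Sylow 3-subgroups of order 9.
-/

set_option autoImplicit false

open scoped Pointwise

namespace Cfsg.Agent.Fg24.TwentyTwo

variable {G : Type*} [Group G] [Finite G]

/-- A permutation of 2-power order dividing 8 with the given fixed point counts is odd. -/
theorem sign_odd_of_fix {X : Type*} [Fintype X] [DecidableEq X] (hX : Fintype.card X = 22)
    (f : Equiv.Perm X) (h8 : f ^ 8 = 1) (h1 : f.support.card = 20) (h2 : (f ^ 2).support.card = 20)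
    (h4 : (f ^ 4).support.card = 16) : Equiv.Perm.sign f = -1 := by
  classical
  have hsub2 : (f ^ 2).support = f.support :=
    Finset.eq_of_subset_of_card_le (Equiv.Perm.support_pow_le f 2) (by omega)
  set m := f.cycleType with hm
  have hmem : ∀ n ∈ m, n = 4 ∨ n = 8 := by
    intro n hn
    have hd : n ∣ 2 ^ 3 := (Equiv.Perm.dvd_of_mem_cycleType hn).trans (orderOf_dvd_of_pow_eq_one h8)
    have h2n : 2 ≤ n := Equiv.Perm.two_le_of_mem_cycleType hn
    have hne : n ≠ 2 := by
      rintro rfl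
      rw [hm, Equiv.Perm.cycleType_def, Multiset.mem_map] at hn
      obtain ⟨c, hc, hcard⟩ := hn
      rw [← Finset.mem_def, Equiv.Perm.mem_cycleFactorsFinset_iff] at hc
      obtain ⟨a, ha⟩ := Finset.card_pos.1 (show 0 < c.support.card by
        simp only [Function.comp_apply] at hcard; omega)
      have hc2 : c ^ 2 = 1 := by
        simp only [Function.comp_apply] at hcard
        rw [← hcard, ← hc.1.orderOf, pow_orderOf_eq_one]
      have hfa : f (f a) = a := by
        have hca : c a ∈ c.support := Equiv.Perm.apply_mem_support.2 ha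
        rw [← hc.2 a ha, ← hc.2 _ hca]
        have := congrArg (fun e : Equiv.Perm X => e a) hc2
        simpa [pow_succ] using this
      have haf : a ∈ (f ^ 2).support := by
        rw [hsub2, Equiv.Perm.mem_support, ← hc.2 a ha, ← Equiv.Perm.mem_support]
        exact ha
      rw [Equiv.Perm.mem_support] at haf
      exact haf (by simpa [pow_succ] using hfa)
    obtain ⟨j, hj, rfl⟩ := (Nat.dvd_prime_pow Nat.prime_two).1 hd
    interval_cases j <;> simp_all
  -- there is at most one 4-cycle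
  set s := f.cycleFactorsFinset.filter fun c => c.support.card = 4 with hs
  have hs1 : s.card ≤ 1 := by
    have hsub : s.biUnion (fun c => c.support) ⊆ f.support \ (f ^ 4).support := by
      intro a ha
      simp only [Finset.mem_biUnion, hs, Finset.mem_filter] at ha
      obtain ⟨c, ⟨hcf, hc4⟩, hac⟩ := ha
      refine Finset.mem_sdiff.2 ⟨Equiv.Perm.mem_cycleFactorsFinset_support_le hcf hac, ?_⟩
      rw [Equiv.Perm.mem_cycleFactorsFinset_iff] at hcf
      have hpow : ∀ k : ℕ, (f ^ k) a = (c ^ k) a ∧ (c ^ k) a ∈ c.support := by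
        intro k
        induction k with
        | zero => exact ⟨rfl, hac⟩
        | succ k ih =>
          rw [pow_succ', pow_succ', Equiv.Perm.mul_apply, Equiv.Perm.mul_apply, ih.1, hcf.2 _ ih.2]
          exact ⟨rfl, hcf.2 _ ih.2 ▸ Equiv.Perm.apply_mem_support.2 ih.2⟩
      have hc4' : c ^ 4 = 1 := by rw [← hc4, ← hcf.1.orderOf, pow_orderOf_eq_one]
      rw [Equiv.Perm.notMem_support, (hpow 4).1, hc4']
      rfl
    have hle := Finset.card_le_card hsub
    rw [Finset.card_biUnion, Finset.sum_const_nat (m := 4) (fun c hc => (Finset.mem_filter.1 hc).2),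
      Finset.card_sdiff_of_subset (Equiv.Perm.support_pow_le f 4), h1, h4] at hle
    · have e : s.card * 4 ≤ 20 - 16 := hle
      omega
    · intro c hc d hd hcd
      exact Equiv.Perm.Disjoint.disjoint_support (f.cycleFactorsFinset_pairwise_disjoint
        (Finset.mem_filter.1 hc).1 (Finset.mem_filter.1 hd).1 hcd)
  have hc4 : m.count 4 ≤ 1 := by
    refine le_trans (le_of_eq ?_) hs1
    rw [hm, Equiv.Perm.cycleType_def, Multiset.count_map, hs, Finset.card_def, Finset.filter_val]
    congr 1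
    exact Multiset.filter_congr fun c _ => eq_comm
  have hsum : m.sum = 4 * m.count 4 + 8 * m.count 8 ∧ m.card = m.count 4 + m.count 8 := by
    clear_value m
    clear hm hc4
    induction m using Multiset.induction_on with
    | empty => simp
    | cons a m ih =>
      obtain ⟨ih1, ih2⟩ := ih fun n hn => hmem n (Multiset.mem_cons_of_mem hn)
      rcases hmem a (Multiset.mem_cons_self a m) with rfl | rfl
      · simp only [Multiset.sum_cons, Multiset.card_cons, Multiset.count_cons_self,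
          Multiset.count_cons_of_ne (show (8 : ℕ) ≠ 4 by norm_num), ih1, ih2]
        omega
      · simp only [Multiset.sum_cons, Multiset.card_cons, Multiset.count_cons_self,
          Multiset.count_cons_of_ne (show (4 : ℕ) ≠ 8 by norm_num), ih1, ih2]
        omega
  have h20 : m.sum = 20 := by rw [hm, Equiv.Perm.sum_cycleType, h1]
  rw [Equiv.Perm.sign_of_cycleType, ← hm, h20, hsum.2]
  have : m.count 4 = 1 ∧ m.count 8 = 2 := by omega
  rw [this.1, this.2]
  decide

/-- The case of Sylow 3-subgroups of order 9 is impossible. -/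
theorem not_order_nine (hc : Ctx G)
    (h : ∀ Q : Sylow 3 G, Nat.card (Q : Subgroup G) = 9 ∧ IsMulCommutative (Q : Subgroup G) ∧
      (∀ z ∈ (Q : Subgroup G), z ^ 3 = 1) ∧ (nbr Q).ncard = 12 ∧ (far Q).ncard = 9) : False := by
  classical
  have hft := Fintype.ofFinite (Sylow 3 G)
  have hftS := Fintype.ofFinite (Subgroup G)
  have hftG := Fintype.ofFinite G
  haveI : Fact (Nat.Prime 3) := ⟨Nat.prime_three⟩
  haveI : Fact (Nat.Prime 2) := ⟨Nat.prime_two⟩
  obtain ⟨P⟩ := (inferInstance : Nonempty (Sylow 3 G))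
  obtain ⟨hP9, hPab, hP3, ha, hb⟩ := h P
  have hacomm : ∀ x ∈ (P : Subgroup G), ∀ y ∈ (P : Subgroup G), x * y = y * x := fun x hx y hy =>
    congrArg Subtype.val (hPab.is_comm.comm (⟨x, hx⟩ : (P : Subgroup G)) ⟨y, hy⟩)
  have ha' : ∀ A : Sylow 3 G, (nbr A).ncard = 12 := fun A => (h A).2.2.2.1
  set 𝒟 : Set (Subgroup G) := (fun Q : Sylow 3 G => (P : Subgroup G) ⊓ (Q : Subgroup G)) '' nbr P with h𝒟
  have hD3 : ∀ D ∈ 𝒟, Nat.card D = 3 := by
    rintro _ ⟨Q, hQ, rfl⟩
    have := idx_mul P Q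
    rw [show idx P Q = 3 from hQ, hP9] at this
    show Nat.card ↥((P : Subgroup G) ⊓ (Q : Subgroup G)) = 3
    omega
  have hDP : ∀ D ∈ 𝒟, D ≤ (P : Subgroup G) := by rintro _ ⟨Q, -, rfl⟩; exact inf_le_left
  have hgen : ∀ D ∈ 𝒟, ∀ z ∈ D, z ≠ 1 → Subgroup.zpowers z = D := fun D hD z hz hz1 =>
    Subgroup.eq_of_le_of_card_ge (Subgroup.zpowers_le.2 hz)
      (by rw [Nat.card_zpowers, orderOf_eq_prime (hP3 z (hDP D hD hz)) hz1, hD3 D hD])
  have hline : ∀ Q ∈ nbr P, line P Q = insert P (MulAction.orbit (P : Subgroup G) Q) := fun Q hQ =>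
    (Set.eq_of_subset_of_ncard_le (orbit_subset_line hQ)
      (by rw [ncard_insert_orbit hQ, line_card hc ha' hQ])).symm
  have hsame : ∀ Q ∈ nbr P, ∀ R : Sylow 3 G, R ≠ P → (P : Subgroup G) ⊓ (Q : Subgroup G) ≤ (R : Subgroup G) →
      R ∈ MulAction.orbit (P : Subgroup G) Q := by
    intro Q hQ R hRP hR
    have hmem : R ∈ line P Q := hR
    rw [hline Q hQ] at hmem
    exact hmem.resolve_left hRP
  have horb_inter : ∀ Q ∈ nbr P, ∀ R ∈ MulAction.orbit (P : Subgroup G) Q,
      R ∈ nbr P ∧ (P : Subgroup G) ⊓ (R : Subgroup G) = (P : Subgroup G) ⊓ (Q : Subgroup G) := by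
    intro Q hQ R hR
    have hne : P ≠ R := by
      intro e
      exact not_mem_orbit_self (show idx P Q ≠ 1 by rw [show idx P Q = 3 from hQ]; norm_num) (e ▸ hR)
    obtain ⟨h3, heq, -⟩ := line_pair hc hQ (line_left P Q)
      (orbit_subset_line hQ (Set.mem_insert_of_mem _ hR)) hne
    exact ⟨h3, heq⟩
  have h𝒟4 : 𝒟.ncard = 4 := by
    have hsum : (nbr P).ncard = 𝒟.ncard * 3 := by
      rw [Set.ncard_eq_toFinset_card', Set.ncard_eq_toFinset_card' 𝒟,
        Finset.card_eq_sum_card_fiberwise (f := fun Q : Sylow 3 G => (P : Subgroup G) ⊓ (Q : Subgroup G))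
          (t := 𝒟.toFinset) (fun Q hQ => by
            simp only [Finset.mem_coe, Set.mem_toFinset] at hQ ⊢
            exact ⟨Q, hQ, rfl⟩),
        Finset.sum_const_nat (m := 3)]
      intro D hD
      rw [Set.mem_toFinset] at hD
      obtain ⟨Q, hQ, rfl⟩ := hD
      refine Eq.trans ?_ (show (MulAction.orbit (P : Subgroup G) Q).ncard = 3 by
        rw [← Nat.card_coe_set_eq, idx_eq_orbit]; exact hQ)
      rw [Set.ncard_eq_toFinset_card']
      congr 1
      ext R
      simp only [Finset.mem_filter, Set.mem_toFinset]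
      constructor
      · rintro ⟨hR, heq⟩
        refine hsame Q hQ R (fun e => ?_) (heq ▸ inf_le_right)
        rw [e, mem_nbr, idx_eq_one.2 rfl] at hR
        norm_num at hR
      · exact horb_inter Q hQ R
    omega
  -- every element of `P` lies in one of the four subgroups
  have hcover : ∀ p ∈ (P : Subgroup G), p ≠ 1 → ∃ D ∈ 𝒟, p ∈ D := by
    intro p hp hp1
    let f : (Σ D : 𝒟, {x : (D : Subgroup G) // x ≠ 1}) → {x : (P : Subgroup G) // x ≠ 1} := fun q =>
      ⟨⟨(q.2.1 : G), hDP q.1 q.1.2 q.2.1.2⟩, fun e => q.2.2 (Subtype.ext (by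
        simpa using congrArg Subtype.val e))⟩
    have hinj : Function.Injective f := by
      rintro ⟨⟨D, hD⟩, ⟨⟨x, hx⟩, hx1⟩⟩ ⟨⟨D', hD'⟩, ⟨⟨y, hy⟩, hy1⟩⟩ e
      have hxy : x = y := congrArg (fun w : {x : (P : Subgroup G) // x ≠ 1} => ((w.1 : (P : Subgroup G)) : G)) e
      subst hxy
      have hne : x ≠ 1 := fun e => hx1 (Subtype.ext e)
      obtain rfl : D = D' := by rw [← hgen D hD x hx hne, hgen D' hD' x hy hne]
      rfl
    have hcard : Nat.card {x : (P : Subgroup G) // x ≠ 1} =
        Nat.card (Σ D : 𝒟, {x : (D : Subgroup G) // x ≠ 1}) := by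
      have hPf := hP9
      rw [Nat.card_eq_fintype_card] at hPf
      rw [Nat.card_sigma, Finset.sum_congr rfl (fun (D : 𝒟) _ =>
        show Nat.card {x : (D : Subgroup G) // x ≠ 1} = 2 by
          have hD := hD3 D D.2
          rw [Nat.card_eq_fintype_card] at hD ⊢
          rw [Fintype.card_subtype_compl, Fintype.card_subtype_eq, hD]), Finset.sum_const, Finset.card_univ,
        ← Nat.card_eq_fintype_card, Nat.card_coe_set_eq, h𝒟4, Nat.card_eq_fintype_card,
        Fintype.card_subtype_compl, Fintype.card_subtype_eq, hPf]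
      rfl
    obtain ⟨⟨D, x⟩, hx⟩ := ((Nat.bijective_iff_injective_and_card f).2 ⟨hinj, hcard.symm⟩).2
      ⟨⟨p, hp⟩, fun e => hp1 (congrArg Subtype.val e)⟩
    have hxp : ((x.1 : (D : Subgroup G)) : G) = p :=
      congrArg (fun w : {x : (P : Subgroup G) // x ≠ 1} => ((w.1 : (P : Subgroup G)) : G)) hx
    exact ⟨D, D.2, hxp ▸ x.1.2⟩
  -- elements of the normaliser fixing a subgroup in `𝒟` keep the corresponding orbit
  have hPfix : ∀ y ∈ Subgroup.normalizer ((P : Subgroup G) : Set G), y • P = P := fun y hy =>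
    Sylow.smul_eq_iff_mem_normalizer.2 hy
  have hnbr : ∀ y ∈ Subgroup.normalizer ((P : Subgroup G) : Set G), ∀ Q, idx P (y • Q) = idx P Q := by
    intro y hy Q
    have := idx_smul y P Q
    rwa [hPfix y hy] at this
  have hfar : ∀ R ∈ far P, MulAction.orbit (P : Subgroup G) R = far P := by
    intro R hR
    refine Set.eq_of_subset_of_ncard_le (fun S hS => ?_) ?_
    · rw [mem_far, ← idx_eq_orbit, MulAction.orbit_eq_iff.2 hS, idx_eq_orbit]; exact hR
    · rw [hb, ← Nat.card_coe_set_eq, idx_eq_orbit]; exact (show idx P R = 9 from hR).ge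
  have horb : ∀ y ∈ Subgroup.normalizer ((P : Subgroup G) : Set G),
      (∀ D ∈ 𝒟, ∀ z, z ∈ D → y⁻¹ * z * y ∈ D) → ∀ S : Sylow 3 G, S ≠ P →
      ∃ x ∈ (P : Subgroup G), y • S = x • S := by
    intro y hy hD S hS
    have hne : y • S ≠ P := fun e => hS (MulAction.injective y (e.trans (hPfix y hy).symm))
    rcases idx_cases hc hS.symm with h3 | h9
    · have hmem : y • S ∈ MulAction.orbit (P : Subgroup G) S := by
        refine hsame S h3 _ hne ?_
        intro z hz
        rw [Sylow.coe_subgroup_smul, Subgroup.mem_pointwise_smul_iff_inv_smul_mem]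
        have e : (MulAut.conj y)⁻¹ • z = y⁻¹ * z * y := by simp [MulAut.smul_def]
        rw [e]
        exact (hD _ ⟨S, h3, rfl⟩ z hz).2
      obtain ⟨x, hx⟩ := hmem
      exact ⟨x, x.2, hx.symm⟩
    · have hmem : y • S ∈ MulAction.orbit (P : Subgroup G) S := by
        rw [hfar S h9]
        show idx P (y • S) = 9
        rw [hnbr y hy]
        exact h9
      obtain ⟨x, hx⟩ := hmem
      exact ⟨x, x.2, hx.symm⟩
  -- `P` is its own centraliser
  set C := Subgroup.centralizer ((P : Subgroup G) : Set G) with hC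
  set N := Subgroup.normalizer ((P : Subgroup G) : Set G) with hN
  have hPC : (P : Subgroup G) ≤ C := fun x hx =>
    Subgroup.mem_centralizer_iff.2 fun y hy => hacomm y hy x hx
  have hCN : C ≤ N := Subgroup.centralizer_le_normalizer _
  have hCP : C = (P : Subgroup G) := by
    refine P.3 ?_ hPC
    refine IsPGroup.iff_orderOf.2 fun u => ?_
    refine ⟨(orderOf u).primeFactorsList.length, Nat.eq_prime_pow_of_unique_prime_dvd (orderOf_pos u).ne'
      fun {q} hq hqd => ?_⟩
    by_contra hq3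
    haveI := Fact.mk hq
    set w := u ^ (orderOf u / q) with hw
    have hwo : orderOf w = q := orderOf_pow_orderOf_div (orderOf_pos u).ne' hqd
    have hcw : ∀ z ∈ (P : Subgroup G), z * (w : G) = (w : G) * z := fun z hz =>
      Subgroup.mem_centralizer_iff.1 w.2 z hz
    have h3 : (w : G) ^ 3 = 1 := by
      refine hc.faith _ fun S => ?_
      rcases eq_or_ne S P with rfl | hS
      · exact hPfix _ (pow_mem (hCN w.2) 3)
      obtain ⟨x, hx, hxS⟩ := horb (w : G) (hCN w.2) (fun D hD z hz => by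
        rw [mul_assoc, hcw z (hDP D hD hz), inv_mul_cancel_left]
        exact hz) S hS
      have hwx : ∀ T : Sylow 3 G, (w : G) • x • T = x • (w : G) • T := fun T => by
        rw [← mul_smul, ← mul_smul, hcw x hx]
      calc (w : G) ^ 3 • S = (w : G) • (w : G) • (w : G) • S := by
            rw [← mul_smul, ← mul_smul]; congr 1; simp [pow_succ, mul_assoc]
        _ = x • x • x • S := by rw [hxS, hwx, hxS, hwx, hwx, hxS]
        _ = x ^ 3 • S := by rw [← mul_smul, ← mul_smul]; congr 1; simp [pow_succ, mul_assoc]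
        _ = S := by rw [hP3 x hx, one_smul]
    have h3' : w ^ 3 = 1 := Subtype.ext h3
    have := orderOf_dvd_of_pow_eq_one h3'
    rw [hwo, Nat.prime_dvd_prime_iff_eq hq Nat.prime_three] at this
    exact hq3 this
  -- the action on the four subgroups
  have hclosed : ∀ y ∈ N, ∀ D ∈ 𝒟, D.map (MulAut.conj y).toMonoidHom ∈ 𝒟 := by
    rintro y hy _ ⟨Q, hQ, rfl⟩
    refine ⟨y • Q, ?_, ?_⟩
    · rw [mem_nbr, hnbr y hy]; exact hQ
    · have e1 : ((y • P : Sylow 3 G) : Subgroup G) = (P : Subgroup G) := by rw [hPfix y hy]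
      show (P : Subgroup G) ⊓ ((y • Q : Sylow 3 G) : Subgroup G) = _
      conv_lhs => rw [← e1, Sylow.coe_subgroup_smul, Sylow.coe_subgroup_smul, ← Subgroup.smul_inf]
      rfl
  let act : N → Equiv.Perm 𝒟 := fun y =>
    { toFun := fun D => ⟨D.1.map (MulAut.conj (y : G)).toMonoidHom, hclosed y y.2 D D.2⟩
      invFun := fun D => ⟨D.1.map (MulAut.conj (y : G)⁻¹).toMonoidHom, hclosed _ (N.inv_mem y.2) D D.2⟩
      left_inv := fun D => Subtype.ext (by
        show (D.1.map _).map _ = D.1
        rw [Subgroup.map_map]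
        convert Subgroup.map_id D.1
        ext g; simp [mul_assoc])
      right_inv := fun D => Subtype.ext (by
        show (D.1.map _).map _ = D.1
        rw [Subgroup.map_map]
        convert Subgroup.map_id D.1
        ext g; simp [mul_assoc]) }
  let π : N →* Equiv.Perm 𝒟 := MonoidHom.mk' act fun a b => Equiv.ext fun D => Subtype.ext (by
    show D.1.map _ = (D.1.map _).map _
    rw [Subgroup.map_map]
    congr 1
    ext g; simp [mul_assoc])
  have hπ : ∀ (y : N) (D : 𝒟), (((π y) D : 𝒟) : Subgroup G) = D.1.map (MulAut.conj (y : G)).toMonoidHom :=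
    fun y D => rfl
  have hkerD : ∀ y : N, y ∈ π.ker → ∀ D ∈ 𝒟, ∀ z, z ∈ D → (y : G) * z * (y : G)⁻¹ ∈ D := by
    intro y hy D hD z hz
    have h1 := hπ y ⟨D, hD⟩
    rw [MonoidHom.mem_ker.1 hy] at h1
    have : (y : G) * z * (y : G)⁻¹ ∈ D.map (MulAut.conj (y : G)).toMonoidHom :=
      ⟨z, hz, rfl⟩
    rw [← h1] at this
    exact this
  have hpm : ∀ D ∈ 𝒟, ∀ z ∈ D, ∀ w ∈ D, z ≠ 1 → w ≠ 1 → w = z ∨ w = z⁻¹ := by
    intro D hD z hz w hw hz1 hw1
    rw [← hgen D hD z hz hz1] at hw
    obtain ⟨i, rfl⟩ := hw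
    have ho : orderOf z = 3 := orderOf_eq_prime (hP3 z (hDP D hD hz)) hz1
    simp only at hw1 ⊢
    rw [← zpow_mod_orderOf, ho] at hw1 ⊢
    have h0 := Int.emod_nonneg i (show ((3 : ℕ) : ℤ) ≠ 0 by norm_num)
    have h1 := Int.emod_lt_of_pos i (show (0 : ℤ) < ((3 : ℕ) : ℤ) by norm_num)
    push_cast at h0 h1 hw1 ⊢
    interval_cases (i % 3)
    · simp at hw1
    · exact Or.inl (zpow_one z)
    · refine Or.inr ?_
      rw [eq_inv_iff_mul_eq_one, ← zpow_add_one]
      exact_mod_cast ho ▸ pow_orderOf_eq_one z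
  have hunif : ∀ y : N, y ∈ π.ker → (∀ p ∈ (P : Subgroup G), (y : G) * p * (y : G)⁻¹ = p) ∨
      ∀ p ∈ (P : Subgroup G), (y : G) * p * (y : G)⁻¹ = p⁻¹ := by
    intro y hy
    have hcases : ∀ p ∈ (P : Subgroup G), (y : G) * p * (y : G)⁻¹ = p ∨ (y : G) * p * (y : G)⁻¹ = p⁻¹ := by
      intro p hp
      rcases eq_or_ne p 1 with rfl | hp1
      · left; group
      obtain ⟨D, hD, hpD⟩ := hcover p hp hp1
      exact hpm D hD p hpD _ (hkerD y hy D hD p hpD) hp1 fun e => hp1 (conj_eq_one_iff.1 e)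
    by_contra hne
    push Not at hne
    obtain ⟨⟨p, hp, hpp⟩, q, hq, hqq⟩ := hne
    have hp' := (hcases p hp).resolve_left hpp
    have hq' := (hcases q hq).resolve_right hqq
    have hsq : ∀ z ∈ (P : Subgroup G), z = z⁻¹ → z = 1 := by
      intro z hz e
      have h2 : z * z = 1 := by nth_rw 1 [e]; exact inv_mul_cancel z
      have h3 := hP3 z hz
      rwa [pow_succ, sq, h2, one_mul] at h3
    have hpq := hcases (p * q) (mul_mem hp hq)
    rw [show (y : G) * (p * q) * (y : G)⁻¹ = ((y : G) * p * (y : G)⁻¹) * ((y : G) * q * (y : G)⁻¹) by group,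
      hp', hq', mul_inv_rev] at hpq
    rcases hpq with e | e
    · exact hpp (by rw [hp']; exact mul_right_cancel e)
    · apply hqq
      rw [← hacomm _ (inv_mem hp) _ (inv_mem hq)] at e
      rw [hq']; exact mul_left_cancel e
  -- the order of the normaliser
  have hker18 : Nat.card π.ker ≤ 18 ∧ 9 ∣ Nat.card π.ker := by
    have hsub : (P : Subgroup G).subgroupOf N ≤ π.ker := by
      intro y hy
      have hy' : (y : G) ∈ (P : Subgroup G) := hy
      rw [MonoidHom.mem_ker]
      refine Equiv.ext fun D => Subtype.ext ?_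
      rw [hπ]
      show D.1.map _ = D.1
      ext z
      constructor
      · rintro ⟨w, hw, rfl⟩
        show (y : G) * w * (y : G)⁻¹ ∈ D.1
        rwa [← hacomm w (hDP _ D.2 hw) _ hy', mul_inv_cancel_right]
      · intro hz
        refine ⟨z, hz, ?_⟩
        show (y : G) * z * (y : G)⁻¹ = z
        rw [← hacomm z (hDP _ D.2 hz) _ hy', mul_inv_cancel_right]
    have hPN : Nat.card ((P : Subgroup G).subgroupOf N) = 9 := by
      rw [← hP9]; exact Nat.card_congr (Subgroup.subgroupOfEquivOfLe Subgroup.le_normalizer).toEquiv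
    refine ⟨?_, hPN ▸ Subgroup.card_dvd_of_le hsub⟩
    by_cases hall : ∀ y : N, y ∈ π.ker → ∀ p ∈ (P : Subgroup G), (y : G) * p * (y : G)⁻¹ = p
    · have : π.ker ≤ (P : Subgroup G).subgroupOf N := by
        intro y hy
        rw [Subgroup.mem_subgroupOf, ← hCP, hC, Subgroup.mem_centralizer_iff]
        intro p hp
        conv_lhs => rw [← hall y hy p hp]
        group
      have := Subgroup.card_le_of_le this
      omega
    push Not at hall
    obtain ⟨y₀, hy₀, p₀, hp₀, hne⟩ := hall
    have hy₀' := (hunif y₀ hy₀).resolve_left fun e => hne (e p₀ hp₀)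
    have hss : (π.ker : Set N) ⊆ ((P : Subgroup G).subgroupOf N : Set N) ∪
        (fun x => y₀ * x) '' ((P : Subgroup G).subgroupOf N : Set N) := by
      intro y hy
      rcases hunif y hy with e | e
      · left
        show (y : G) ∈ (P : Subgroup G)
        rw [← hCP, hC, Subgroup.mem_centralizer_iff]
        intro p hp
        conv_lhs => rw [← e p hp]
        group
      · right
        refine ⟨y₀⁻¹ * y, ?_, mul_inv_cancel_left _ _⟩
        show ((y₀ : G))⁻¹ * (y : G) ∈ (P : Subgroup G)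
        rw [← hCP, hC, Subgroup.mem_centralizer_iff]
        intro p hp
        have h1 := e p hp
        have h2 := hy₀' p hp
        calc p * ((y₀ : G)⁻¹ * y) = (y₀ : G)⁻¹ * ((y₀ : G) * p * (y₀ : G)⁻¹) * y := by group
          _ = (y₀ : G)⁻¹ * ((y : G) * p * (y : G)⁻¹) * y := by rw [h2, h1]
          _ = (y₀ : G)⁻¹ * y * p := by group
    have := (Set.ncard_le_ncard hss).trans ((Set.ncard_union_le _ _).trans
      (Nat.add_le_add_left (Set.ncard_image_le) _))
    rw [← Nat.card_coe_set_eq, ← Nat.card_coe_set_eq] at this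
    change Nat.card π.ker ≤ Nat.card ((P : Subgroup G).subgroupOf N) + Nat.card ((P : Subgroup G).subgroupOf N) at this
    omega
  have hmul : Nat.card π.ker * Nat.card π.range = Nat.card N := by
    rw [← Subgroup.index_ker]; exact π.ker.card_mul_index
  have hrange24 : Nat.card π.range ∣ 24 := by
    have h := Subgroup.card_subgroup_dvd_card π.range
    rwa [Nat.card_eq_fintype_card (α := Equiv.Perm 𝒟), Fintype.card_perm,
      ← Nat.card_eq_fintype_card, Nat.card_coe_set_eq, h𝒟4] at h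
  have h27 : ¬ 27 ∣ Nat.card N := by
    intro h27
    obtain ⟨H, hH⟩ := Sylow.exists_subgroup_card_pow_prime 3 (n := 3)
      (show 3 ^ 3 ∣ Nat.card G from h27.trans (Subgroup.card_subgroup_dvd_card N))
    obtain ⟨Q, hQ⟩ := (IsPGroup.of_card hH).exists_le_sylow
    have := Subgroup.card_le_of_le hQ
    rw [hH, (h Q).1] at this
    norm_num at this
  have hrange : Nat.card π.range ∈ ({1, 2, 4, 8} : Finset ℕ) := by
    have hm : Nat.card π.range ∈ Nat.divisors 24 := Nat.mem_divisors.2 ⟨hrange24, by norm_num⟩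
    rw [show Nat.divisors 24 = ({1, 2, 3, 4, 6, 8, 12, 24} : Finset ℕ) from by decide +kernel] at hm
    have hn3 : ¬ 3 ∣ Nat.card π.range := fun h3 => h27 (hmul ▸ Nat.mul_dvd_mul hker18.2 h3)
    simp only [Finset.mem_insert, Finset.mem_singleton] at hm ⊢
    rcases hm with hm | hm | hm | hm | hm | hm | hm | hm <;> first | omega | (rw [hm] at hn3; norm_num at hn3)
  simp only [Finset.mem_insert, Finset.mem_singleton] at hrange
  have hker : Nat.card π.ker = 9 ∨ Nat.card π.ker = 18 := by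
    obtain ⟨j, hj⟩ := hker18.2
    have := hker18.1
    have : 0 < Nat.card π.ker := Nat.card_pos
    omega
  have h11 : ¬ 11 ∣ Nat.card N := by
    rw [← hmul]
    rcases hker with e | e <;> rcases hrange with f | f | f | f <;> rw [e, f] <;> norm_num
  obtain ⟨E, d, hd, -, -, -, hn, hmod⟩ := eleven hc P h11
  rw [← hN, ← hmul] at hn
  have hr8 : Nat.card π.range = 8 := by
    rcases hker with e | e <;> rcases hrange with f | f | f | f <;> rw [e, f] at hn <;>
      rcases hd with rfl | rfl | rfl <;> omega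
  -- an element acting as a 4-cycle
  obtain ⟨ρ, hρ, hρfix⟩ : ∃ ρ ∈ π.range, ∀ D, ρ D ≠ D ∧ ρ (ρ D) ≠ D ∧ ρ (ρ (ρ (ρ D))) = D := by
    let e : Fin 4 ≃ 𝒟 := (Fintype.equivFinOfCardEq (by rw [← Nat.card_eq_fintype_card, Nat.card_coe_set_eq, h𝒟4])).symm
    set c := e.permCongr (finRotate 4) with hc'
    have hcp : ∀ D, c D ≠ D ∧ c (c D) ≠ D ∧ c (c (c (c D))) = D := by
      intro D
      obtain ⟨i, rfl⟩ := e.surjective D
      simp only [hc', Equiv.permCongr_apply, Equiv.symm_apply_apply, ne_eq, EmbeddingLike.apply_eq_iff_eq]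
      revert i
      decide
    have hp2 : IsPGroup 2 π.range := IsPGroup.of_card (n := 3) hr8
    obtain ⟨S, hS⟩ := hp2.exists_le_sylow
    have hperm : Nat.card (Equiv.Perm 𝒟) = 24 := by
      rw [Nat.card_eq_fintype_card, Fintype.card_perm, ← Nat.card_eq_fintype_card, Nat.card_coe_set_eq, h𝒟4]
      rfl
    have hSr : (S : Subgroup (Equiv.Perm 𝒟)) = π.range := by
      refine (Subgroup.eq_of_le_of_card_ge hS ?_).symm
      obtain ⟨j, hj⟩ := IsPGroup.iff_card.1 S.isPGroup'
      have hd := Subgroup.card_subgroup_dvd_card (S : Subgroup (Equiv.Perm 𝒟))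
      rw [hperm] at hd
      rw [hj] at hd ⊢
      rw [hr8]
      have hle : j ≤ 3 := by
        by_contra hh
        have := (pow_dvd_pow 2 (show 4 ≤ j by omega)).trans hd
        norm_num at this
      exact Nat.pow_le_pow_right (by norm_num : 2 > 0) hle
    have hc4 : IsPGroup 2 (Subgroup.zpowers c) := by
      rintro ⟨w, i, rfl⟩
      refine ⟨2, Subtype.ext ?_⟩
      push_cast
      have h4 : c ^ 4 = 1 := Equiv.ext fun D => by simpa [pow_succ] using (hcp D).2.2
      rw [← zpow_natCast, ← zpow_mul, mul_comm, zpow_mul, zpow_natCast]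
      show (c ^ (2 ^ 2)) ^ i = 1
      rw [show (2 : ℕ) ^ 2 = 4 from rfl, h4, one_zpow]
    obtain ⟨S', hS'⟩ := hc4.exists_le_sylow
    obtain ⟨g, hg⟩ := MulAction.exists_smul_eq (Equiv.Perm 𝒟) S' S
    refine ⟨g * c * g⁻¹, ?_, fun D => ?_⟩
    · rw [← hSr, ← hg, Sylow.coe_subgroup_smul, Subgroup.mem_pointwise_smul_iff_inv_smul_mem]
      have : c ∈ (S' : Subgroup (Equiv.Perm 𝒟)) := hS' (Subgroup.mem_zpowers c)
      simpa [MulAut.smul_def, mul_assoc] using this
    · obtain ⟨D', rfl⟩ := g.surjective D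
      obtain ⟨h1, h2, h3⟩ := hcp D'
      have hg' : ∀ T, (g * c * g⁻¹) (g T) = g (c T) := fun T => by simp
      simp only [hg']
      exact ⟨fun e => h1 (g.injective e), fun e => h2 (g.injective e), by rw [h3]⟩
  obtain ⟨y₁, hy₁⟩ := hρ
  -- replace by an element of 2-power order
  obtain ⟨y, a, hya, hyρ⟩ : ∃ (y : N) (a : ℕ), y ^ 2 ^ a = 1 ∧
      (∀ D, π y D ≠ D ∧ π y (π y D) ≠ D ∧ π y (π y (π y (π y D))) = D) := by
    set n := orderOf y₁
    refine ⟨y₁ ^ (n / 2 ^ n.factorization 2), n.factorization 2, ?_, ?_⟩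
    · rw [← pow_mul, Nat.div_mul_cancel (Nat.ordProj_dvd n 2), pow_orderOf_eq_one]
    · set m := n / 2 ^ n.factorization 2
      have hm : Odd m := Nat.odd_iff.2 (Nat.two_dvd_ne_zero.1 (Nat.not_dvd_ordCompl Nat.prime_two (orderOf_pos y₁).ne'))
      have hρ4 : ρ ^ 4 = 1 := Equiv.ext fun D => by simpa [pow_succ] using (hρfix D).2.2
      have hπm : π (y₁ ^ m) = ρ ∨ π (y₁ ^ m) = ρ ^ 3 := by
        rw [map_pow, hy₁, ← Nat.mod_add_div m 4, pow_add, pow_mul, hρ4, one_pow, mul_one]
        obtain ⟨j, hj⟩ := hm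
        rcases (show m % 4 = 1 ∨ m % 4 = 3 by omega) with e | e <;> rw [e]
        · left; rw [pow_one]
        · right; rfl
      intro D
      rcases hπm with e | e <;> rw [e]
      · exact hρfix D
      · have h4 : ∀ T, ρ (ρ (ρ (ρ T))) = T := fun T => (hρfix T).2.2
        simp only [pow_succ, pow_zero, one_mul, Equiv.Perm.mul_apply, h4]
        refine ⟨fun e => (hρfix D).1 ?_, fun e => (hρfix D).2.1 e, trivial⟩
        conv_lhs => rw [← e]
        exact h4 D
  set t := y ^ 4 with ht
  have htker : t ∈ π.ker := by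
    rw [MonoidHom.mem_ker, ht, map_pow]
    exact Equiv.ext fun D => by simpa [pow_succ] using (hyρ D).2.2
  have hPpow : ∀ w : N, (∀ p ∈ (P : Subgroup G), (w : G) * p * (w : G)⁻¹ = p) → ∀ k, w ^ 2 ^ k = 1 → w = 1 := by
    intro w hw k hk
    have hwP : (w : G) ∈ (P : Subgroup G) := by
      rw [← hCP, hC, Subgroup.mem_centralizer_iff]
      intro p hp
      conv_lhs => rw [← hw p hp]
      group
    refine Subtype.ext (orderOf_eq_one_iff.1 ?_)
    exact Nat.eq_one_of_dvd_coprimes (show Nat.Coprime 3 (2 ^ k) from (by norm_num : Nat.Coprime 3 2).pow_right k)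
      (orderOf_dvd_of_pow_eq_one (hP3 _ hwP)) (orderOf_dvd_of_pow_eq_one (by
        simpa using congrArg Subtype.val hk))
  have hypow : ∀ j : ℕ, (y ^ j) ^ 2 ^ a = 1 := fun j => by
    rw [← pow_mul, mul_comm, pow_mul, hya, one_pow]
  have htinv : ∀ p ∈ (P : Subgroup G), (t : G) * p * (t : G)⁻¹ = p⁻¹ := by
    refine (hunif t htker).resolve_left fun hcent => ?_
    have ht1 : t = 1 := hPpow t hcent a (hypow 4)
    set w := y ^ 2 with hw
    have hw2 : w * w = 1 := by rw [hw, ← pow_add]; exact ht1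
    have hfixD : ∀ D ∈ 𝒟, ∀ q ∈ D, q ≠ 1 → ((w : G) * q * (w : G)⁻¹ = q ∨ (w : G) * q * (w : G)⁻¹ = q⁻¹) → False := by
      intro D hD q hq hq1 hcase
      refine (hyρ ⟨D, hD⟩).2.1 (Subtype.ext ?_)
      rw [hπ, hπ]
      show (D.map _).map _ = D
      rw [Subgroup.map_map, ← hgen D hD q hq hq1, MonoidHom.map_zpowers]
      have hval : ((MulAut.conj (y : G)).toMonoidHom.comp (MulAut.conj (y : G)).toMonoidHom) q =
          (w : G) * q * (w : G)⁻¹ := by
        simp [hw, sq, mul_assoc]
      rw [hval]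
      rcases hcase with e | e <;> rw [e]
      exact Subgroup.zpowers_inv
    obtain ⟨D, hD⟩ : 𝒟.Nonempty := (Set.ncard_pos).1 (by rw [h𝒟4]; norm_num)
    haveI : Nontrivial D := Finite.one_lt_card_iff_nontrivial.1 (by rw [hD3 D hD]; norm_num)
    obtain ⟨⟨p, hpD⟩, hp⟩ := exists_ne (1 : D)
    have hp1 : p ≠ 1 := fun e => hp (Subtype.ext e)
    have hpP := hDP D hD hpD
    have hwp : (w : G) * p * (w : G)⁻¹ ∈ (P : Subgroup G) := (Subgroup.mem_normalizer_iff.1 w.2 p).1 hpP
    set q := p * ((w : G) * p * (w : G)⁻¹) with hq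
    rcases eq_or_ne q 1 with e | e
    · exact hfixD D hD p hpD hp1 (Or.inr (eq_inv_of_mul_eq_one_right e))
    · obtain ⟨D', hD', hqD'⟩ := hcover q (mul_mem hpP hwp) e
      refine hfixD D' hD' q hqD' e (Or.inl ?_)
      have hww : (w : G) * (w : G) = 1 := by simpa using congrArg Subtype.val hw2
      have hwi : (w : G)⁻¹ = (w : G) := inv_eq_of_mul_eq_one_left hww
      rw [hq, hacomm p hpP _ hwp]
      simp only [hwi, ← mul_assoc, hww, one_mul]
      simp only [mul_assoc, hww, mul_one]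
      simpa [hwi, mul_assoc] using hacomm p hpP _ hwp
  have ht8 : (y : G) ^ 8 = 1 := by
    have hcent : ∀ p ∈ (P : Subgroup G), ((t * t : N) : G) * p * ((t * t : N) : G)⁻¹ = p := by
      intro p hp
      calc ((t * t : N) : G) * p * ((t * t : N) : G)⁻¹ = (t : G) * ((t : G) * p * (t : G)⁻¹) * (t : G)⁻¹ := by
            push_cast; group
        _ = p := by rw [htinv p hp, htinv _ (inv_mem hp), inv_inv]
    have htt : t * t = 1 := hPpow (t * t) hcent a (by rw [ht, ← pow_add]; exact hypow (4 + 4))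
    rw [ht, ← pow_add] at htt
    simpa using congrArg Subtype.val htt
  -- the fixed points of `t`
  set T := (t : G)
  have hTs : ∀ x ∈ (P : Subgroup G), ∀ S : Sylow 3 G, T • x • S = x⁻¹ • T • S := fun x hx S => by
    rw [← mul_smul, ← mul_smul]; congr 1
    rw [← htinv x hx, inv_mul_cancel_right]
  have hTD : ∀ D ∈ 𝒟, ∀ z, z ∈ D → T⁻¹ * z * T ∈ D := by
    intro D hD z hz
    have hti : t⁻¹ ∈ π.ker := inv_mem htker
    simpa using hkerD t⁻¹ hti D hD z hz
  have hexists : ∀ S : Sylow 3 G, S ≠ P → ∃ R ∈ MulAction.orbit (P : Subgroup G) S, T • R = R := by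
    intro S hS
    obtain ⟨x, hx, hxS⟩ := horb T t.2 hTD S hS
    refine ⟨(x * x) • S, ⟨⟨x * x, mul_mem hx hx⟩, rfl⟩, ?_⟩
    rw [hTs _ (mul_mem hx hx), hxS, ← mul_smul]
    congr 1
    have h3 := hP3 x hx
    calc (x * x)⁻¹ * x = x⁻¹ := by group
      _ = x * x := inv_eq_of_mul_eq_one_right (by rw [← h3]; simp [pow_succ, mul_assoc])
  have hunique : ∀ R R' : Sylow 3 G, R' ∈ MulAction.orbit (P : Subgroup G) R → T • R = R → T • R' = R' → R' = R := by
    rintro R R' ⟨⟨x, hx⟩, rfl⟩ hR hR'
    change T • x • R = x • R at hR'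
    show x • R = R
    rw [hTs x hx, hR] at hR'
    have h2 : (x * x) • R = R := by rw [mul_smul, ← hR', smul_inv_smul]
    have hx4 : x = (x * x) * (x * x) := by
      calc x = x * x ^ 3 := by rw [hP3 x hx, mul_one]
        _ = (x * x) * (x * x) := by simp [pow_succ, mul_assoc]
    rw [hx4, mul_smul, h2, h2]
  set A := {R ∈ nbr P | T • R = R} with hA
  set B := {R ∈ far P | T • R = R} with hB
  have hA4 : A.ncard = 4 := by
    rw [← h𝒟4]
    refine Set.ncard_congr (fun R _ => (P : Subgroup G) ⊓ (R : Subgroup G)) (fun R hR => ⟨R, hR.1, rfl⟩)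
      (fun R R' hR hR' e => ?_) (fun D hD => ?_)
    · refine (hunique R R' (hsame R hR.1 R' (fun e' => ?_) (e ▸ inf_le_right)) hR.2 hR'.2).symm
      have := hR'.1
      rw [e', mem_nbr, idx_eq_one.2 rfl] at this
      norm_num at this
    · obtain ⟨Q, hQ, rfl⟩ := hD
      obtain ⟨R, hR, hfix⟩ := hexists Q (fun e => by rw [e, mem_nbr, idx_eq_one.2 rfl] at hQ; norm_num at hQ)
      obtain ⟨h1, h2⟩ := horb_inter Q hQ R hR
      exact ⟨R, ⟨h1, hfix⟩, h2⟩
  obtain ⟨S₀, hS₀⟩ : (far P).Nonempty := (Set.ncard_pos).1 (by rw [hb]; norm_num)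
  have hS₀P : S₀ ≠ P := fun e => by rw [e, mem_far, idx_eq_one.2 rfl] at hS₀; norm_num at hS₀
  obtain ⟨c, hcorb, hcfix⟩ := hexists S₀ hS₀P
  rw [hfar S₀ hS₀] at hcorb
  have hBc : B = {c} := by
    ext R
    constructor
    · rintro ⟨hR, hfix⟩
      exact hunique c R (by rw [hfar c hcorb]; exact hR) hcfix hfix
    · rintro rfl; exact ⟨hcorb, hcfix⟩
  have hcP : c ≠ P := fun e => by rw [e, mem_far, idx_eq_one.2 rfl] at hcorb; norm_num at hcorb
  have hyc : (y : G) • c = c := by
    refine hunique c _ (by rw [hfar c hcorb]; show idx P _ = 9; rw [hnbr _ y.2]; exact hcorb) hcfix ?_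
    rw [← mul_smul, show T * (y : G) = (y : G) * T from by
      simp only [T, ht, SubmonoidClass.coe_pow]; rw [← pow_succ, ← pow_succ'], mul_smul, hcfix]
  have hfixT : {R : Sylow 3 G | T • R = R} = insert P (insert c A) := by
    ext R
    simp only [Set.mem_setOf_eq, Set.mem_insert_iff]
    constructor
    · intro hR
      rcases eq_or_ne R P with e | e
      · exact Or.inl e
      rcases idx_cases hc e.symm with h3 | h9
      · exact Or.inr (Or.inr ⟨h3, hR⟩)
      · exact Or.inr (Or.inl (by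
          have : R ∈ B := ⟨h9, hR⟩
          rwa [hBc] at this))
    · rintro (rfl | rfl | hR)
      · exact hPfix T t.2
      · exact hcfix
      · exact hR.2
  have hy2fix : ∀ R : Sylow 3 G, (y : G) ^ 2 • R = R → R = P ∨ R = c := by
    intro R hR
    have hT : T • R = R := by
      rw [show T = (y : G) ^ 2 * (y : G) ^ 2 by simp only [T, ht, SubmonoidClass.coe_pow]; rw [← pow_add],
        mul_smul, hR, hR]
    have hmem : R ∈ insert P (insert c A) := hfixT ▸ hT
    rcases hmem with e | e | hA'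
    · exact Or.inl e
    · exact Or.inr e
    exfalso
    refine (hyρ ⟨_, R, hA'.1, rfl⟩).2.1 (Subtype.ext ?_)
    rw [hπ, hπ]
    show (((P : Subgroup G) ⊓ (R : Subgroup G)).map _).map _ = _
    rw [Subgroup.map_map]
    have e1 : ((((y : G) ^ 2) • P : Sylow 3 G) : Subgroup G) = (P : Subgroup G) := by
      rw [hPfix _ (pow_mem y.2 2)]
    have e2 : ((((y : G) ^ 2) • R : Sylow 3 G) : Subgroup G) = (R : Subgroup G) := by rw [hR]
    rw [Sylow.coe_subgroup_smul] at e1 e2
    show _ = (P : Subgroup G) ⊓ (R : Subgroup G)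
    conv_rhs => rw [← e1, ← e2, ← Subgroup.smul_inf]
    show _ = ((P : Subgroup G) ⊓ (R : Subgroup G)).map _
    congr 1
    ext g
    simp [sq, mul_assoc]
  -- the sign
  set Y := MulAction.toPermHom G (Sylow 3 G) (y : G) with hY
  have hYapp : ∀ (k : ℕ) (R : Sylow 3 G), (Y ^ k) R = (y : G) ^ k • R := fun k R => by
    rw [hY, ← map_pow]; rfl
  have h22 : Fintype.card (Sylow 3 G) = 22 := by rw [← Nat.card_eq_fintype_card, hc.n22]
  have hsupp : ∀ (k : ℕ) (s : Finset (Sylow 3 G)), (∀ R, (y : G) ^ k • R = R ↔ R ∈ s) →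
      (Y ^ k).support.card = 22 - s.card := by
    intro k s hs
    rw [← h22, ← Finset.card_compl]
    congr 1
    ext R
    rw [Equiv.Perm.mem_support, hYapp, Finset.mem_compl, ne_eq, hs]
  have hPy : ∀ k : ℕ, (y : G) ^ k • P = P := fun k => hPfix _ (pow_mem y.2 k)
  have hfix2 : ∀ R, (y : G) ^ 2 • R = R ↔ R ∈ ({P, c} : Finset (Sylow 3 G)) := by
    intro R
    simp only [Finset.mem_insert, Finset.mem_singleton]
    refine ⟨hy2fix R, ?_⟩
    rintro (rfl | rfl)
    · exact hPy 2
    · rw [sq, mul_smul, hyc, hyc]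
  have h2 : (Y ^ 2).support.card = 20 := by
    rw [hsupp 2 _ hfix2, Finset.card_pair hcP.symm]
  have h1 : Y.support.card = 20 := by
    have := hsupp 1 {P, c} fun R => by
      rw [pow_one]
      simp only [Finset.mem_insert, Finset.mem_singleton]
      refine ⟨fun hR => hy2fix R (by rw [sq, mul_smul, hR, hR]), ?_⟩
      rintro (rfl | rfl)
      · simpa using hPy 1
      · exact hyc
    rwa [pow_one, Finset.card_pair hcP.symm] at this
  have h4 : (Y ^ 4).support.card = 16 := by
    rw [hsupp 4 (insert P (insert c A)).toFinset (fun R => by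
      rw [Set.mem_toFinset, ← hfixT]
      simp [T, ht]), ← Set.ncard_eq_toFinset_card', Set.ncard_insert_of_notMem,
      Set.ncard_insert_of_notMem, hA4]
    · intro hcA
      have h3 : idx P c = 3 := hcA.1
      rw [show idx P c = 9 from hcorb] at h3
      norm_num at h3
    · rintro (e | hPA)
      · exact hcP e.symm
      · have h3 : idx P P = 3 := hPA.1
        rw [idx_eq_one.2 rfl] at h3
        norm_num at h3
  have hY8 : Y ^ 8 = 1 := by rw [hY, ← map_pow, ht8, map_one]
  have hodd := sign_odd_of_fix h22 Y hY8 h1 h2 h4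
  rw [hY, sign_eq_one hc] at hodd
  exact absurd hodd (by decide)

end Cfsg.Agent.Fg24.TwentyTwo
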