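import Mathlib
import Cfsg.Agent.Fg24.TwentyTwo.Shape

/-!
Groups with 22 Sylow 3-subgroups: the case of Sylow 3-subgroups of order 3.
-/

set_option autoImplicit false

namespace Cfsg.Agent.Fg24.TwentyTwo

variable {G : Type*} [Group G] [Finite G]

/-- The centraliser of an element with seven orbits of length three and one fixed point, inside the
even permutations. -/
theorem card_even_centralizer {X : Type*} [Fintype X] [DecidableEq X] (hX : Fintype.card X = 22)
    (s : Equiv.Perm X) (hs : s ^ 3 = 1) (p : X) (hp : ∀ x, s x = x ↔ x = p) :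
    Nat.card ((Equiv.Perm.sign.comp (Subgroup.centralizer ({s} : Set (Equiv.Perm X))).subtype).ker) =
      3 ^ 7 * 2520 := by
  have hs1 : s ≠ 1 := by
    rintro rfl
    obtain ⟨x, hx⟩ := Fintype.exists_ne_of_one_lt_card (by rw [hX]; norm_num) p
    exact hx ((hp x).1 rfl)
  haveI : Fact (Nat.Prime 3) := ⟨Nat.prime_three⟩
  have ho : orderOf s = 3 := orderOf_eq_prime hs hs1
  obtain ⟨n, hn⟩ := Equiv.Perm.cycleType_prime_order (σ := s) (by rw [ho]; norm_num)
  rw [ho] at hn
  have hsupp : s.support = {p}ᶜ := by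
    ext x
    simp [Equiv.Perm.mem_support, hp]
  have hn6 : n = 6 := by
    have h := s.sum_cycleType
    rw [hn, Multiset.sum_replicate, smul_eq_mul, hsupp, Finset.card_compl, Finset.card_singleton,
      hX] at h
    omega
  subst hn6
  set C := Subgroup.centralizer ({s} : Set (Equiv.Perm X)) with hC
  have hcard : Nat.card C = 3 ^ 7 * 5040 := by
    rw [hC, Equiv.Perm.nat_card_centralizer, hn]
    simp only [Multiset.sum_replicate, Multiset.prod_replicate, hX, smul_eq_mul]
    rw [show (Multiset.replicate (6 + 1) 3).toFinset = {3} from by decide, Finset.prod_singleton,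
      Multiset.count_replicate_self]
    norm_num [Nat.factorial]
  -- an odd element
  obtain ⟨a, ha⟩ := Fintype.exists_ne_of_one_lt_card (show 1 < Fintype.card X by rw [hX]; norm_num) p
  obtain ⟨b, hb⟩ : ∃ b, b ∉ ({p, a, s a, s (s a)} : Finset X) := by
    by_contra hall
    push Not at hall
    have h := Finset.card_le_card (show (Finset.univ : Finset X) ⊆ {p, a, s a, s (s a)} from
      fun x _ => hall x)
    rw [Finset.card_univ, hX] at h
    have h4 := Finset.card_le_four (a := p) (b := a) (c := s a) (d := s (s a))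
    omega
  simp only [Finset.mem_insert, Finset.mem_singleton, not_or] at hb
  obtain ⟨hbp, hba, hbsa, hbssa⟩ := hb
  have hs3 : ∀ x, s (s (s x)) = x := fun x => by
    have := congrArg (fun e : Equiv.Perm X => e x) hs
    simpa [pow_succ] using this
  have hmove : ∀ x, x ≠ p → s x ≠ x := fun x hx h => hx ((hp x).1 h)
  have hmove2 : ∀ x, x ≠ p → s (s x) ≠ x := fun x hx h => hmove x hx (by
    have := congrArg s h
    rw [hs3] at this
    exact this.symm)
  have hne : ∀ i j : X, i ≠ j → s i ≠ s j := fun i j h e => h (s.injective e)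
  set t1 := Equiv.swap a b with ht1
  set t2 := Equiv.swap (s a) (s b) with ht2
  set t3 := Equiv.swap (s (s a)) (s (s b)) with ht3
  have hd12 : Equiv.Perm.Disjoint t1 t2 := by
    intro x
    by_cases hx : x = a ∨ x = b
    · right
      rcases hx with rfl | rfl
      · refine Equiv.swap_apply_of_ne_of_ne (hmove x ha).symm (fun h => ?_)
        exact hbssa (by rw [h, hs3])
      · exact Equiv.swap_apply_of_ne_of_ne hbsa (hmove x hbp).symm
    · push Not at hx
      exact Or.inl (Equiv.swap_apply_of_ne_of_ne hx.1 hx.2)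
  have hd13 : Equiv.Perm.Disjoint t1 t3 := by
    intro x
    by_cases hx : x = a ∨ x = b
    · right
      rcases hx with rfl | rfl
      · refine Equiv.swap_apply_of_ne_of_ne (hmove2 x ha).symm (fun h => ?_)
        exact hbsa (by rw [h, hs3])
      · exact Equiv.swap_apply_of_ne_of_ne hbssa (hmove2 x hbp).symm
    · push Not at hx
      exact Or.inl (Equiv.swap_apply_of_ne_of_ne hx.1 hx.2)
  have hτ : t1 * t2 * t3 ∈ C := by
    rw [hC, Subgroup.mem_centralizer_singleton_iff]
    have hconj : ∀ x y : X, s * Equiv.swap x y = Equiv.swap (s x) (s y) * s := fun x y => by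
      rw [Equiv.swap_apply_apply]; group
    have e1 : s * t1 = t2 * s := hconj a b
    have e2 : s * t2 = t3 * s := hconj (s a) (s b)
    have e3 : s * t3 = t1 * s := by
      rw [ht3, hconj, hs3, hs3]
    calc t1 * t2 * t3 * s = (t2 * t3) * t1 * s := by
          rw [mul_assoc t1 t2 t3, ((hd12.commute).mul_right hd13.commute).eq]
      _ = t2 * t3 * (s * t3) := by rw [e3]; group
      _ = t2 * (s * t2) * t3 := by rw [e2]; group
      _ = s * (t1 * t2 * t3) := by rw [← mul_assoc t2 s t2, ← e1]; group
  have hsurj : Function.Surjective (Equiv.Perm.sign.comp C.subtype) := by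
    intro u
    rcases Int.units_eq_one_or u with rfl | rfl
    · exact ⟨1, map_one _⟩
    · refine ⟨⟨_, hτ⟩, ?_⟩
      show Equiv.Perm.sign (t1 * t2 * t3) = -1
      rw [map_mul, map_mul, ht1, ht2, ht3, Equiv.Perm.sign_swap (Ne.symm hba),
        Equiv.Perm.sign_swap (hne _ _ (Ne.symm hba)),
        Equiv.Perm.sign_swap (hne _ _ (hne _ _ (Ne.symm hba)))]
      decide
  have hk := (Equiv.Perm.sign.comp C.subtype).ker.card_mul_index
  rw [Subgroup.index_ker, MonoidHom.range_eq_top.2 hsurj, Subgroup.card_top, hcard,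
    Nat.card_eq_fintype_card (α := ℤˣ), Fintype.card_units_int] at hk
  omega

/-- The arithmetic of the case. -/
theorem one_arith (k e d : ℕ) (hk : k ∣ 280) (he : e ∣ 2) (hd : d = 2 ∨ d = 5 ∨ d = 10) (n : ℕ)
    (hn : n * d = 6 * k * e) (hmod : n % 11 = 1) : 35 ∣ k ∨ (n = 12 ∧ k * e = 2 * d) := by
  have he' : e = 1 ∨ e = 2 := (Nat.dvd_prime Nat.prime_two).1 he
  have hk' : k ∈ Nat.divisors 280 := Nat.mem_divisors.2 ⟨hk, by norm_num⟩
  rw [show Nat.divisors 280 = ({1, 2, 4, 5, 7, 8, 10, 14, 20, 28, 35, 40, 56, 70, 140, 280} : Finset ℕ)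
    from by decide +kernel] at hk'
  simp only [Finset.mem_insert, Finset.mem_singleton] at hk'
  rcases hd with rfl | rfl | rfl <;> rcases he' with rfl | rfl <;>
    rcases hk' with rfl | rfl | rfl | rfl | rfl | rfl | rfl | rfl | rfl | rfl | rfl | rfl | rfl | rfl | rfl | rfl <;>
    omega

/-- No centraliser of a Sylow 3-subgroup has order divisible by 35. -/
theorem not_thirtyfive (hc : Ctx G) (P : Sylow 3 G) (h3 : Nat.card (P : Subgroup G) = 3)
    {z : G} (hzP : z ∈ (P : Subgroup G)) (hz3 : z ^ 3 = 1) (hzfix : ∀ Q : Sylow 3 G, z • Q = Q → Q = P)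
    (k : ℕ) (hk : Nat.card (Subgroup.centralizer ((P : Subgroup G) : Set G)) = 3 * k) (hk280 : k ∣ 280) :
    ¬ 35 ∣ k := by
  classical
  intro h35
  set C := Subgroup.centralizer ((P : Subgroup G) : Set G) with hC
  haveI : Fact (Nat.Prime 7) := ⟨by norm_num⟩
  haveI : Fact (Nat.Prime 5) := ⟨by norm_num⟩
  haveI : Fact (Nat.Prime 3) := ⟨Nat.prime_three⟩
  obtain ⟨j, rfl⟩ := h35
  have hj : j ∣ 8 := by
    have : 35 * j ∣ 35 * 8 := hk280
    exact Nat.dvd_of_mul_dvd_mul_left (by norm_num) this
  obtain ⟨S⟩ := (inferInstance : Nonempty (Sylow 7 C))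
  have hjne : j ≠ 0 := fun h => by rw [h] at hj; norm_num at hj
  have hS : Nat.card (S : Subgroup C) = 7 := by
    have hndvd : ¬ 7 ∣ 15 * j := by
      intro h
      have := h.trans (Nat.mul_dvd_mul_left 15 hj)
      norm_num at this
    rw [Sylow.card_eq_multiplicity, hk, show 3 * (35 * j) = 7 * (15 * j) by ring,
      Nat.factorization_mul (by norm_num) (by omega), Finsupp.coe_add, Pi.add_apply,
      Nat.Prime.factorization_self (by norm_num), Nat.factorization_eq_zero_of_not_dvd hndvd, pow_one]
  haveI hScyc : IsCyclic (S : Subgroup C) := isCyclic_of_prime_card hS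
  set N := Subgroup.normalizer ((S : Subgroup C) : Set C) with hN
  have hzC : z ∈ C := by
    rw [hC, Subgroup.mem_centralizer_iff]
    intro w hw
    haveI : IsCyclic (P : Subgroup G) := isCyclic_of_prime_card h3
    haveI : IsMulCommutative (P : Subgroup G) := IsCyclic.isMulCommutative
    exact setLike_mul_comm hw hzP
  have hz1 : z ≠ 1 := by
    rintro rfl
    haveI : Nontrivial (Sylow 3 G) := Finite.one_lt_card_iff_nontrivial.1 (by rw [hc.n22]; norm_num)
    obtain ⟨Q, hQ⟩ := exists_ne P
    exact hQ (hzfix Q (one_smul G Q))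
  have hzcen : ∀ c : C, c * ⟨z, hzC⟩ = ⟨z, hzC⟩ * c := fun c =>
    Subtype.ext (Subgroup.mem_centralizer_iff.1 c.2 z hzP).symm
  have hzN : (⟨z, hzC⟩ : C) ∈ N := by
    rw [hN, Subgroup.mem_normalizer_iff]
    intro h
    rw [← hzcen h, mul_inv_cancel_right]
  have hzo : orderOf (⟨z, hzC⟩ : C) = 3 := by
    rw [Subgroup.orderOf_mk]; exact orderOf_eq_prime hz3 hz1
  have h21 : 21 ∣ Nat.card N := by
    refine Nat.Coprime.mul_dvd_of_dvd_of_dvd (m := 3) (n := 7) (by norm_num) ?_ ?_
    · rw [← hzo]; exact Subgroup.orderOf_dvd_natCard _ hzN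
    · rw [← hS]; exact Subgroup.card_dvd_of_le Subgroup.le_normalizer
  have hn7 : Nat.card (Sylow 7 C) = N.index := Sylow.card_eq_index_normalizer S
  have hprod : N.index * Nat.card N = 3 * (35 * j) := by rw [Subgroup.index_mul_card, hk]
  obtain ⟨m, hm⟩ := h21
  rw [hm, show 3 * (35 * j) = 21 * (5 * j) by ring, show N.index * (21 * m) = 21 * (N.index * m) by ring]
    at hprod
  have him : N.index * m = 5 * j := Nat.eq_of_mul_eq_mul_left (by norm_num) hprod
  have h40 : N.index ∈ Nat.divisors 40 := Nat.mem_divisors.2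
    ⟨(Dvd.intro m him).trans (by simpa using Nat.mul_dvd_mul_left 5 hj), by norm_num⟩
  rw [show Nat.divisors 40 = ({1, 2, 4, 5, 8, 10, 20, 40} : Finset ℕ) from by decide +kernel] at h40
  simp only [Finset.mem_insert, Finset.mem_singleton] at h40
  have hmod : N.index % 7 = 1 := by rw [← hn7]; exact card_sylow_modEq_one 7 C
  have h5 : 5 ∣ m := by
    have hi : N.index = 1 ∨ N.index = 8 := by omega
    have h5i : Nat.Coprime 5 N.index := by rcases hi with h | h <;> rw [h] <;> norm_num
    exact h5i.dvd_of_dvd_mul_left ⟨j, him⟩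
  obtain ⟨v, hv⟩ := exists_prime_orderOf_dvd_card' (G := N) 5 (hm ▸ Dvd.dvd.mul_left h5 21)
  -- it centralises the Sylow 7-subgroup
  set f := (S : Subgroup C).normalizerMonoidHom
  have hfv : f v = 1 := by
    rw [← orderOf_eq_one_iff]
    refine Nat.eq_one_of_dvd_coprimes (show Nat.Coprime 5 6 by norm_num)
      (hv ▸ orderOf_map_dvd f v) ?_
    have h := orderOf_dvd_natCard (f v)
    rwa [hScyc.card_mulAut, hS, Nat.totient_prime (by norm_num)] at h
  have hvker : v ∈ f.ker := hfv
  rw [Subgroup.normalizerMonoidHom_ker, Subgroup.mem_subgroupOf] at hvker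
  obtain ⟨⟨y, hyS⟩, hy⟩ := IsCyclic.exists_generator (α := (S : Subgroup C))
  have hyo : orderOf y = 7 := by
    rw [← Subgroup.orderOf_mk y hyS, orderOf_eq_card_of_forall_mem_zpowers hy, hS]
  have hyv : Commute (y : C) (v : C) := Subgroup.mem_centralizer_iff.1 hvker y hyS
  set Y : G := ((y : C) : G)
  set V : G := ((v : C) : G)
  have hY7 : Y ^ 7 = 1 := by
    have := congrArg (fun c : C => (c : G)) (hyo ▸ pow_orderOf_eq_one y)
    simpa [Y] using this
  have hY1 : Y ≠ 1 := fun h => by
    have hy1 : y = 1 := Subtype.ext h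
    rw [hy1, orderOf_one] at hyo
    norm_num at hyo
  have hV5 : V ^ 5 = 1 := by
    have := congrArg (fun c : N => ((c : C) : G)) (hv ▸ pow_orderOf_eq_one v)
    simpa [V] using this
  have hV1 : V ≠ 1 := fun h => by
    have hv1 : v = 1 := Subtype.ext (Subtype.ext h)
    rw [hv1, orderOf_one] at hv
    norm_num at hv
  have hcomm : ∀ c : C, Commute (c : G) z := fun c => congrArg Subtype.val (hzcen c)
  have hYV : Commute Y V := congrArg Subtype.val hyv.eq
  have hfixP : ∀ c : C, (c : G) • P = P := fun c =>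
    Sylow.smul_eq_iff_mem_normalizer.2 (Subgroup.centralizer_le_normalizer _ c.2)
  have hstep : ∀ c : C, {Q : Sylow 3 G | (c : G) • Q = Q}.ncard ≡ 1 [MOD 3] := by
    intro c
    have h := fix_modEq 3 z hz3 {Q : Sylow 3 G | (c : G) • Q = Q} (fun Q (hQ : (c : G) • Q = Q) => by
      show (c : G) • z • Q = z • Q
      rw [← mul_smul, (hcomm c).eq, mul_smul, hQ])
    rwa [show {Q ∈ {Q : Sylow 3 G | (c : G) • Q = Q} | z • Q = Q} = {P} from Set.ext fun Q =>
      ⟨fun hQ => hzfix Q hQ.2, fun hQ => by
        rw [show Q = P from hQ]; exact ⟨hfixP c, fix_of_mem hzP⟩⟩, Set.ncard_singleton] at h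
  have hFy : {Q : Sylow 3 G | Y • Q = Q}.ncard = 1 := by
    have h1 : {Q : Sylow 3 G | Y • Q = Q}.ncard % 3 = 1 % 3 := hstep y
    have h2 : 22 % 7 = {Q : Sylow 3 G | Y • Q = Q}.ncard % 7 := fix_modEq_22 hc 7 Y hY7
    have h3 := fix_le_22 hc Y
    have h4 : {Q : Sylow 3 G | Y • Q = Q}.ncard ≠ 22 := fun h => hY1 (eq_one_of_fix_22 hc h)
    omega
  have hFv : {Q : Sylow 3 G | V • Q = Q}.ncard = 22 := by
    have h1 : {Q : Sylow 3 G | V • Q = Q}.ncard % 3 = 1 % 3 := hstep (v : C)
    have h2 : 22 % 5 = {Q : Sylow 3 G | V • Q = Q}.ncard % 5 := fix_modEq_22 hc 5 V hV5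
    have h3 := fix_le_22 hc V
    have h := fix_modEq 7 Y hY7 {Q : Sylow 3 G | V • Q = Q} (fun Q (hQ : V • Q = Q) => by
      show V • Y • Q = Y • Q
      rw [← mul_smul, ← hYV.eq, mul_smul, hQ])
    have hsing : {Q : Sylow 3 G | Y • Q = Q} = {P} := by
      refine (Set.eq_of_subset_of_ncard_le (s := {P}) (t := {Q : Sylow 3 G | Y • Q = Q})
        (Set.singleton_subset_iff.2 (hfixP y)) ?_).symm
      rw [hFy, Set.ncard_singleton]
    rw [show {Q ∈ {Q : Sylow 3 G | V • Q = Q} | Y • Q = Q} = {P} from Set.ext fun Q =>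
      ⟨fun hQ => hsing.le hQ.2, fun hQ => by
        rw [show Q = P from hQ]; exact ⟨hfixP v, hfixP y⟩⟩, Set.ncard_singleton] at h
    unfold Nat.ModEq at h
    omega
  exact hV1 (eq_one_of_fix_22 hc hFv)

/-- A group acting on twelve Sylow 11-subgroups. -/
theorem not_twelve (hc : Ctx G) (P : Sylow 3 G) (h3 : Nat.card (P : Subgroup G) = 3) (E : Sylow 11 G)
    (d k e : ℕ) (hd : d = 2 ∨ d = 5 ∨ d = 10) (hE : Nat.card (E : Subgroup G) = 11)
    (hNE : Nat.card (Subgroup.normalizer ((E : Subgroup G) : Set G)) = 11 * d)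
    (hCE : Subgroup.centralizer ((E : Subgroup G) : Set G) = E)
    (hn : Nat.card (Sylow 11 G) = 12)
    (hk : Nat.card (Subgroup.centralizer ((P : Subgroup G) : Set G)) = 3 * k)
    (hNP : Nat.card (Subgroup.normalizer ((P : Subgroup G) : Set G)) = 3 * k * e)
    (he : e ∣ 2) (hke : k * e = 2 * d) : False := by
  classical
  haveI : Fact (Nat.Prime 11) := ⟨by norm_num⟩
  haveI : Fact (Nat.Prime 3) := ⟨Nat.prime_three⟩
  haveI : Fact (Nat.Prime 5) := ⟨by norm_num⟩
  haveI : Fact (Nat.Prime 2) := ⟨Nat.prime_two⟩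
  -- facts that hold for every Sylow 11-subgroup
  have hall : ∀ A : Sylow 11 G, Nat.card (A : Subgroup G) = 11 ∧
      Nat.card (Subgroup.normalizer ((A : Subgroup G) : Set G)) = 11 * d := by
    intro A
    refine ⟨by rw [Nat.card_congr (Sylow.equiv A E).toEquiv, hE], ?_⟩
    have h1 : Nat.card (Sylow 11 G) = (Subgroup.normalizer ((A : Subgroup G) : Set G)).index :=
      Sylow.card_eq_index_normalizer A
    have h2 : Nat.card (Sylow 11 G) = (Subgroup.normalizer ((E : Subgroup G) : Set G)).index :=
      Sylow.card_eq_index_normalizer E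
    have e1 := Subgroup.index_mul_card (Subgroup.normalizer ((A : Subgroup G) : Set G))
    have e2 := Subgroup.index_mul_card (Subgroup.normalizer ((E : Subgroup G) : Set G))
    rw [← h1, hn] at e1
    rw [← h2, hn, hNE] at e2
    omega
  have hfix_mem : ∀ (A : Sylow 11 G) (x : G), x ^ 11 = 1 → x • A = A → x ∈ (A : Subgroup G) := by
    intro A x hx h
    have hp : IsPGroup 11 (Subgroup.zpowers x) := by
      rintro ⟨w, i, rfl⟩
      refine ⟨1, Subtype.ext ?_⟩
      push_cast
      rw [← zpow_natCast, ← zpow_mul, mul_comm, zpow_mul, zpow_natCast, hx, one_zpow]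
    have h1 : x ∈ Subgroup.zpowers x ⊓ Subgroup.normalizer (A : Set G) :=
      ⟨Subgroup.mem_zpowers x, Sylow.smul_eq_iff_mem_normalizer.1 h⟩
    rw [hp.inf_normalizer_sylow] at h1
    exact h1.2
  have hpow : ∀ (A : Sylow 11 G) (x : G), x ∈ (A : Subgroup G) → x ^ 11 = 1 := by
    intro A x hx
    have h := pow_card_eq_one' (x := (⟨x, hx⟩ : (A : Subgroup G)))
    rw [(hall A).1] at h
    simpa using congrArg Subtype.val h
  have hgen : ∀ (A : Sylow 11 G) (x : G), x ∈ (A : Subgroup G) → x ≠ 1 →
      Subgroup.zpowers x = (A : Subgroup G) := by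
    intro A x hx hx1
    refine Subgroup.eq_of_le_of_card_ge (Subgroup.zpowers_le.2 hx) ?_
    rw [Nat.card_zpowers, orderOf_eq_prime (hpow A x hx) hx1, (hall A).1]
  have heqA : ∀ (A B : Sylow 11 G) (x : G), x ∈ (A : Subgroup G) → x ∈ (B : Subgroup G) → x ≠ 1 → A = B :=
    fun A B x hA hB hx => Sylow.ext (by rw [← hgen A x hA hx, hgen B x hB hx])
  -- the action on the twelve is faithful
  have hfaith : ∀ g : G, (∀ A : Sylow 11 G, g • A = A) → g = 1 := by
    intro g hg
    set M := (MulAction.toPermHom G (Sylow 11 G)).ker with hM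
    have hgM : g ∈ M := by
      rw [hM, MonoidHom.mem_ker]; exact Equiv.ext hg
    have hM11 : ∀ m ∈ M, m ^ 11 = 1 → m = 1 := by
      intro m hm h11
      by_contra hne
      haveI : Nontrivial (Sylow 11 G) := Finite.one_lt_card_iff_nontrivial.1 (by rw [hn]; norm_num)
      obtain ⟨A, B, hAB⟩ := exists_pair_ne (Sylow 11 G)
      have hmfix : ∀ A : Sylow 11 G, m • A = A := fun A => by
        simpa using congrArg (fun e : Equiv.Perm (Sylow 11 G) => e A) (MonoidHom.mem_ker.1 hm)
      exact hAB (heqA A B m (hfix_mem A m h11 (hmfix A)) (hfix_mem B m h11 (hmfix B)) hne)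
    have hME : ∀ m ∈ M, m ∈ Subgroup.centralizer ((E : Subgroup G) : Set G) := by
      intro m hm
      rw [Subgroup.mem_centralizer_iff]
      intro x hx
      have hmN : m ∈ Subgroup.normalizer ((E : Subgroup G) : Set G) :=
        Sylow.smul_eq_iff_mem_normalizer.1 (by
          simpa using congrArg (fun e : Equiv.Perm (Sylow 11 G) => e E) (MonoidHom.mem_ker.1 hm))
      have h1 : x * m * x⁻¹ * m⁻¹ ∈ M :=
        M.mul_mem ((inferInstance : M.Normal).conj_mem m hm x) (M.inv_mem hm)
      have h2 : x * m * x⁻¹ * m⁻¹ ∈ (E : Subgroup G) := by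
        rw [show x * m * x⁻¹ * m⁻¹ = x * (m * x⁻¹ * m⁻¹) by group]
        exact mul_mem hx ((Subgroup.mem_normalizer_iff.1 hmN x⁻¹).1 (Subgroup.inv_mem _ hx))
      exact commutatorElement_eq_one_iff_mul_comm.1 (hM11 _ h1 (hpow E _ h2))
    have hgE : g ∈ (E : Subgroup G) := hCE ▸ hME g hgM
    exact hM11 g hgM (hpow E g hgE)
  -- elements of order three fix nothing
  have hz3 : ∀ z : G, orderOf z = 3 → ∀ A : Sylow 11 G, z • A ≠ A := by
    intro z hz A h
    have h1 := Subgroup.orderOf_dvd_natCard _ (Sylow.smul_eq_iff_mem_normalizer.1 h :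
      z ∈ Subgroup.normalizer ((A : Subgroup G) : Set G))
    rw [hz] at h1
    replace h1 : 3 ∣ 11 * d := by rw [← (hall A).2]; exact h1
    rcases hd with rfl | rfl | rfl <;> norm_num at h1
  obtain ⟨⟨z, hzP⟩, hzo⟩ := exists_prime_orderOf_dvd_card' (G := (P : Subgroup G)) 3 (by rw [h3])
  rw [Subgroup.orderOf_mk] at hzo
  set C := Subgroup.centralizer ((P : Subgroup G) : Set G) with hC
  have hstep : ∀ c ∈ C, {A : Sylow 11 G | c • A = A}.ncard % 3 = 0 := by
    intro c hcC
    have hcz : Commute z c := Subgroup.mem_centralizer_iff.1 hcC z hzP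
    have h := fix_modEq 3 z (hzo ▸ pow_orderOf_eq_one z) {A : Sylow 11 G | c • A = A}
      (fun A (hA : c • A = A) => by
        show c • z • A = z • A
        rw [← mul_smul, ← hcz.eq, mul_smul, hA])
    rwa [show {A ∈ {A : Sylow 11 G | c • A = A} | z • A = A} = (∅ : Set (Sylow 11 G)) from
      Set.eq_empty_iff_forall_notMem.2 fun A hA => hz3 z hzo A hA.2, Set.ncard_empty] at h
  rcases hd with rfl | hd5
  swap
  · -- an element of order five
    have h5 : 5 ∣ k := by
      have h : 5 ∣ k * e := by rw [hke]; rcases hd5 with rfl | rfl <;> norm_num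
      rcases (Nat.Prime.dvd_mul (by norm_num : Nat.Prime 5)).1 h with h | h
      · exact h
      · exact absurd (h.trans he) (by norm_num)
    obtain ⟨⟨v, hvC⟩, hvo⟩ := exists_prime_orderOf_dvd_card' (G := C) 5 (hk ▸ Dvd.dvd.mul_left h5 3)
    rw [Subgroup.orderOf_mk] at hvo
    have h := fix_modEq 5 v (hvo ▸ pow_orderOf_eq_one v) (Set.univ : Set (Sylow 11 G)) fun _ _ => trivial
    have hle : {A : Sylow 11 G | v • A = A}.ncard ≤ 12 :=
      (Set.ncard_le_ncard (Set.subset_univ _)).trans_eq (by rw [Set.ncard_univ, hn])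
    have h' : 12 % 5 = {A : Sylow 11 G | v • A = A}.ncard % 5 := by
      simpa [Set.ncard_univ, hn, Nat.ModEq] using h
    have h12 : {A : Sylow 11 G | v • A = A}.ncard = 12 := by
      have := hstep v hvC
      omega
    have hv1 : v = 1 := hfaith v fun A => by
      have hu : {A : Sylow 11 G | v • A = A} = Set.univ :=
        Set.eq_of_subset_of_ncard_le (Set.subset_univ _) (by rw [h12, Set.ncard_univ, hn])
      exact (hu ▸ Set.mem_univ A : A ∈ {A : Sylow 11 G | v • A = A})
    rw [hv1, orderOf_one] at hvo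
    norm_num at hvo
  -- the group of order 264
  have hG : Nat.card G = 264 := by
    rw [card_eq_mul_normalizer hc P, hNP, mul_assoc 3 k e, hke]
    all_goals norm_num
  have hk2 : 2 ∣ k := by
    rcases (Nat.dvd_prime Nat.prime_two).1 he with rfl | rfl <;> omega
  obtain ⟨⟨u, huC⟩, huo⟩ := exists_prime_orderOf_dvd_card' (G := C) 2 (hk ▸ Dvd.dvd.mul_left hk2 3)
  rw [Subgroup.orderOf_mk] at huo
  -- an involution with a fixed point has exactly two
  have htwo : ∀ t : G, orderOf t = 2 → ∀ A : Sylow 11 G, t • A = A →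
      {B : Sylow 11 G | t • B = B}.ncard = 2 := by
    intro t ht A hA
    have ht2 : t * t = 1 := by rw [← sq]; exact ht ▸ pow_orderOf_eq_one t
    have h := fix_modEq 2 t (ht ▸ pow_orderOf_eq_one t) (Set.univ : Set (Sylow 11 G)) fun _ _ => trivial
    have h' : 12 % 2 = {B : Sylow 11 G | t • B = B}.ncard % 2 := by
      simpa [Set.ncard_univ, hn, Nat.ModEq] using h
    have hpos : 0 < {B : Sylow 11 G | t • B = B}.ncard := (Set.ncard_pos).2 ⟨A, hA⟩
    have hle : ({B : Sylow 11 G | t • B = B} \ {A}).ncard ≤ 1 := by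
      rw [Set.ncard_le_one_iff]
      intro B B' hB hB'
      -- `A` permutes the other eleven transitively
      have horb : ∀ C' : Sylow 11 G, C' ≠ A →
          MulAction.orbit (A : Subgroup G) C' = {A}ᶜ := by
        intro C' hC'
        refine Set.eq_of_subset_of_ncard_le ?_ ?_
        · rintro S ⟨x, rfl⟩ (hx : (x : G) • C' = A)
          apply hC'
          have : (x : G) • C' = (x : G) • A := by
            rw [hx]; exact (Sylow.smul_eq_iff_mem_normalizer.2 (Subgroup.le_normalizer x.2)).symm
          exact MulAction.injective (x : G) this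
        · rw [Set.ncard_compl, hn, Set.ncard_singleton, ← Nat.card_coe_set_eq]
          obtain ⟨j, hj⟩ := IsPGroup.card_orbit A.isPGroup' C'
          rw [hj]
          rcases Nat.eq_zero_or_pos j with rfl | hj0
          · exfalso
            rw [pow_zero] at hj
            haveI : Nontrivial (A : Subgroup G) :=
              Finite.one_lt_card_iff_nontrivial.1 (by rw [(hall A).1]; norm_num)
            obtain ⟨x, hx⟩ := exists_ne (1 : (A : Subgroup G))
            have hfx : (x : G) • C' = C' := by
              have hsub := (Nat.card_eq_one_iff_unique.1 hj).1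
              exact congrArg Subtype.val (@Subsingleton.elim _ hsub
                ⟨x • C', MulAction.mem_orbit _ x⟩ ⟨C', MulAction.mem_orbit_self C'⟩)
            exact hC' (heqA C' A x (hfix_mem C' x (hpow A x x.2) hfx) x.2 (fun h => hx (Subtype.ext h)))
          · have : 11 ≤ 11 ^ j := Nat.le_self_pow (by omega) 11
            omega
      obtain ⟨⟨x, hxA⟩, hx⟩ : B' ∈ MulAction.orbit (A : Subgroup G) B := (horb B hB.2).ge hB'.2
      have hx' : x • B = B' := hx
      have htN : t ∈ Subgroup.normalizer ((A : Subgroup G) : Set G) :=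
        Sylow.smul_eq_iff_mem_normalizer.1 hA
      set x' := t * x * t⁻¹ with hx'd
      have hx'A : x' ∈ (A : Subgroup G) := (Subgroup.mem_normalizer_iff.1 htN x).1 hxA
      have htinv : t⁻¹ = t := inv_eq_of_mul_eq_one_left ht2
      -- `x' * x` is centralised by `t`
      haveI : IsCyclic (A : Subgroup G) := isCyclic_of_prime_card (hall A).1
      haveI : IsMulCommutative (A : Subgroup G) := IsCyclic.isMulCommutative
      have hcomm : x' * x = x * x' := setLike_mul_comm hx'A hxA
      have hprod : x' * x = 1 := by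
        by_contra hne
        have hct : Commute t (x' * x) := by
          show t * (x' * x) = x' * x * t
          calc t * (x' * x) = t * t * x * t⁻¹ * x := by rw [hx'd]; group
            _ = x * t⁻¹ * x := by rw [ht2, one_mul]
            _ = x * (t * x * t⁻¹) * t := by rw [htinv]; simp only [mul_assoc, ht2, mul_one]
            _ = x' * x * t := by rw [hcomm]
        have hAt : t ∈ Subgroup.centralizer ((A : Subgroup G) : Set G) := by
          rw [← hgen A _ (mul_mem hx'A hxA) hne, Subgroup.mem_centralizer_iff]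
          rintro _ ⟨i, rfl⟩
          exact ((hct.zpow_right i).eq).symm
        obtain ⟨g, hg⟩ := MulAction.exists_smul_eq G A E
        have : g * t * g⁻¹ ∈ (E : Subgroup G) := by
          rw [← hCE, Subgroup.mem_centralizer_iff]
          intro w hw
          rw [← hg, SetLike.mem_coe, Sylow.coe_subgroup_smul,
            Subgroup.mem_pointwise_smul_iff_inv_smul_mem] at hw
          have hw' : g⁻¹ * w * g ∈ (A : Subgroup G) := by simpa [MulAut.smul_def] using hw
          have hh := Subgroup.mem_centralizer_iff.1 hAt _ hw'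
          calc w * (g * t * g⁻¹) = g * (g⁻¹ * w * g * t) * g⁻¹ := by group
            _ = g * (t * (g⁻¹ * w * g)) * g⁻¹ := by rw [hh]
            _ = g * t * g⁻¹ * w := by group
        have h11 := hpow E _ this
        rw [conj_pow, conj_eq_one_iff] at h11
        have h11' := orderOf_dvd_of_pow_eq_one h11
        rw [ht] at h11'
        norm_num at h11'
      have hx'' : x' • B = x • B := by
        have hB1 : t • B = B := hB.1
        have hB'1 : t • B' = B' := hB'.1
        calc x' • B = t • x • t⁻¹ • B := by rw [hx'd, mul_smul, mul_smul]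
          _ = t • x • B := by rw [htinv, hB1]
          _ = x • B := by rw [hx', hB'1]
      rw [eq_inv_of_mul_eq_one_left hprod] at hx''
      have hx2 : (x * x) • B = B := by rw [mul_smul, ← hx'', smul_inv_smul]
      by_contra hBB
      have hxx : x * x = 1 := by
        by_contra hne
        refine hB.2 ?_
        exact heqA B A (x * x) (hfix_mem B _ (hpow A _ (mul_mem hxA hxA)) hx2) (mul_mem hxA hxA) hne
      have hx1 : x = 1 := by
        rw [← orderOf_eq_one_iff]
        exact Nat.eq_one_of_dvd_coprimes (show Nat.Coprime 2 11 by norm_num)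
          (orderOf_dvd_of_pow_eq_one (by rw [sq]; exact hxx)) (orderOf_dvd_of_pow_eq_one (hpow A x hxA))
      rw [hx1, one_smul] at hx'
      exact hBB hx'
    rw [Set.ncard_sdiff_singleton_of_mem (show A ∈ {B : Sylow 11 G | t • B = B} from hA)] at hle
    omega
  -- the central involution fixes nothing
  have hufree : ∀ A : Sylow 11 G, u • A ≠ A := by
    intro A hA
    have := hstep u huC
    rw [htwo u huo A hA] at this
    norm_num at this
  -- counting
  have := Fintype.ofFinite G
  have hO11 : 120 ≤ (Finset.univ.filter fun g : G => orderOf g = 11).card := by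
    have hinj : Nat.card (Σ A : Sylow 11 G, {x : (A : Subgroup G) // x ≠ 1}) ≤
        Nat.card {g : G // orderOf g = 11} := by
      refine Nat.card_le_card_of_injective
        (fun p => ⟨p.2.1, orderOf_eq_prime (hpow p.1 _ p.2.1.2) fun h => p.2.2 (Subtype.ext h)⟩) ?_
      rintro ⟨A, ⟨⟨x, hx⟩, hx1⟩⟩ ⟨B, ⟨⟨y, hy⟩, hy1⟩⟩ h
      have hxy : x = y := congrArg Subtype.val h
      subst hxy
      obtain rfl := heqA A B x hx hy fun e => hx1 (Subtype.ext e)
      rfl
    have hft := Fintype.ofFinite (Sylow 11 G)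
    rw [Nat.card_sigma, Finset.sum_congr rfl (fun (A : Sylow 11 G) _ => show Nat.card {x : (A : Subgroup G) // x ≠ 1} = 10 by
      have hA := (hall A).1
      rw [Nat.card_eq_fintype_card] at hA ⊢
      rw [Fintype.card_subtype_compl, Fintype.card_subtype_eq, hA]), Finset.sum_const, Finset.card_univ,
      ← Nat.card_eq_fintype_card, hn, Nat.card_eq_fintype_card, Fintype.card_subtype] at hinj
    simpa using hinj
  have hQ3 : ∀ Q : Sylow 3 G, Nat.card (Q : Subgroup G) = 3 := fun Q => (card_sylow_eq Q P).trans h3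
  have hQ3p : ∀ (Q : Sylow 3 G) (x : G), x ∈ (Q : Subgroup G) → x ^ 3 = 1 := by
    intro Q x hx
    have h := pow_card_eq_one' (x := (⟨x, hx⟩ : (Q : Subgroup G)))
    rw [hQ3 Q] at h
    simpa using congrArg Subtype.val h
  have hQeq : ∀ (Q R : Sylow 3 G) (x : G), x ∈ (Q : Subgroup G) → x ∈ (R : Subgroup G) → x ≠ 1 → Q = R := by
    intro Q R x hQ hR hx
    have hz : ∀ S : Sylow 3 G, x ∈ (S : Subgroup G) → Subgroup.zpowers x = (S : Subgroup G) := fun S hS =>
      Subgroup.eq_of_le_of_card_ge (Subgroup.zpowers_le.2 hS)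
        (by rw [Nat.card_zpowers, orderOf_eq_prime (hQ3p S x hS) hx, hQ3 S])
    exact Sylow.ext (by rw [← hz Q hQ, hz R hR])
  have hsum3 : Nat.card (Σ Q : Sylow 3 G, {x : (Q : Subgroup G) // x ≠ 1}) = 44 := by
    have hft := Fintype.ofFinite (Sylow 3 G)
    rw [Nat.card_sigma, Finset.sum_congr rfl (fun (Q : Sylow 3 G) _ => show Nat.card {x : (Q : Subgroup G) // x ≠ 1} = 2 by
      have hQ := hQ3 Q
      rw [Nat.card_eq_fintype_card] at hQ ⊢
      rw [Fintype.card_subtype_compl, Fintype.card_subtype_eq, hQ]), Finset.sum_const, Finset.card_univ,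
      ← Nat.card_eq_fintype_card, hc.n22, smul_eq_mul]
  have hO3 : 44 ≤ (Finset.univ.filter fun g : G => orderOf g = 3).card := by
    have hinj : Nat.card (Σ Q : Sylow 3 G, {x : (Q : Subgroup G) // x ≠ 1}) ≤
        Nat.card {g : G // orderOf g = 3} := by
      refine Nat.card_le_card_of_injective
        (fun p => ⟨p.2.1, orderOf_eq_prime (hQ3p p.1 _ p.2.1.2) fun h => p.2.2 (Subtype.ext h)⟩) ?_
      rintro ⟨A, ⟨⟨x, hx⟩, hx1⟩⟩ ⟨B, ⟨⟨y, hy⟩, hy1⟩⟩ h
      have hxy : x = y := congrArg Subtype.val h
      subst hxy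
      obtain rfl := hQeq A B x hx hy fun e => hx1 (Subtype.ext e)
      rfl
    rw [hsum3, Nat.card_eq_fintype_card, Fintype.card_subtype] at hinj
    simpa using hinj
  have hO6 : 44 ≤ (Finset.univ.filter fun g : G => orderOf g = 6).card := by
    choose g hg using fun Q : Sylow 3 G => MulAction.exists_smul_eq G P Q
    set w := fun Q => g Q * u * (g Q)⁻¹
    have hw : ∀ (Q : Sylow 3 G) (x : G), x ∈ (Q : Subgroup G) → Commute x (w Q) := by
      intro Q x hx
      rw [← hg Q, Sylow.coe_subgroup_smul, Subgroup.mem_pointwise_smul_iff_inv_smul_mem] at hx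
      have hx' : (g Q)⁻¹ * x * g Q ∈ (P : Subgroup G) := by simpa [MulAut.smul_def] using hx
      have hh := Subgroup.mem_centralizer_iff.1 huC _ hx'
      show x * (g Q * u * (g Q)⁻¹) = g Q * u * (g Q)⁻¹ * x
      calc x * (g Q * u * (g Q)⁻¹) = g Q * ((g Q)⁻¹ * x * g Q * u) * (g Q)⁻¹ := by group
        _ = g Q * (u * ((g Q)⁻¹ * x * g Q)) * (g Q)⁻¹ := by rw [hh]
        _ = g Q * u * (g Q)⁻¹ * x := by group
    have hwo : ∀ Q, orderOf (w Q) = 2 := fun Q => by
      rw [show w Q = MulAut.conj (g Q) u from rfl, MulEquiv.orderOf_eq, huo]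
    have hinj : Nat.card (Σ Q : Sylow 3 G, {x : (Q : Subgroup G) // x ≠ 1}) ≤
        Nat.card {g : G // orderOf g = 6} := by
      refine Nat.card_le_card_of_injective (fun p => ⟨p.2.1 * w p.1, ?_⟩) ?_
      · have ho : orderOf ((p.2.1 : (p.1 : Subgroup G)) : G) = 3 :=
          orderOf_eq_prime (hQ3p p.1 _ p.2.1.2) fun h => p.2.2 (Subtype.ext h)
        rw [(hw p.1 _ p.2.1.2).orderOf_mul_eq_mul_orderOf_of_coprime (by rw [ho, hwo]; norm_num), ho, hwo]
      · rintro ⟨A, ⟨⟨x, hx⟩, hx1⟩⟩ ⟨B, ⟨⟨y, hy⟩, hy1⟩⟩ h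
        have h' : x * w A = y * w B := congrArg Subtype.val h
        have h4 : ∀ (Q : Sylow 3 G) (x : G), x ∈ (Q : Subgroup G) → (x * w Q) ^ 4 = x := by
          intro Q x hx
          have hw4 : w Q ^ 4 = 1 := by
            rw [show 4 = 2 * 2 from rfl, pow_mul, show w Q ^ 2 = 1 from hwo Q ▸ pow_orderOf_eq_one _,
              one_pow]
          rw [(hw Q x hx).mul_pow, hw4, mul_one, pow_succ, hQ3p Q x hx, one_mul]
        have hxy : x = y := by rw [← h4 A x hx, h', h4 B y hy]
        subst hxy
        obtain rfl := hQeq A B x hx hy fun e => hx1 (Subtype.ext e)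
        rfl
    rw [hsum3, Nat.card_eq_fintype_card, Fintype.card_subtype] at hinj
    simpa using hinj
  have hO2 : 67 ≤ (Finset.univ.filter fun g : G => orderOf g = 2).card := by
    let T : Set G := {t | orderOf t = 2 ∧ ∃ A : Sylow 11 G, t • A = A}
    let Pairs : Set (G × Sylow 11 G) := {p | orderOf p.1 = 2 ∧ p.1 • p.2 = p.2}
    have hft := Fintype.ofFinite (Sylow 11 G)
    have h11 : ∀ A : Sylow 11 G, ({t : G | orderOf t = 2 ∧ t • A = A}).ncard = 11 := by
      intro A
      have heq : {t : G | orderOf t = 2 ∧ t • A = A} =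
          (Subgroup.normalizer ((A : Subgroup G) : Set G) : Set G) \ ((A : Subgroup G) : Set G) := by
        ext t
        constructor
        · rintro ⟨ht, hA⟩
          refine ⟨Sylow.smul_eq_iff_mem_normalizer.1 hA, fun htA => ?_⟩
          have h := orderOf_dvd_of_pow_eq_one (hpow A t htA)
          rw [ht] at h
          norm_num at h
        · rintro ⟨htN, htA⟩
          refine ⟨?_, Sylow.smul_eq_iff_mem_normalizer.2 htN⟩
          have hAN : (A : Subgroup G) ≤ Subgroup.normalizer ((A : Subgroup G) : Set G) :=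
            Subgroup.le_normalizer
          have hd2 := Subgroup.orderOf_dvd_natCard _ htN
          rw [(hall A).2] at hd2
          have hdiv : orderOf t ∈ Nat.divisors 22 := Nat.mem_divisors.2 ⟨hd2, by norm_num⟩
          rw [show Nat.divisors 22 = ({1, 2, 11, 22} : Finset ℕ) from by decide +kernel] at hdiv
          simp only [Finset.mem_insert, Finset.mem_singleton] at hdiv
          have h11mem : ∀ w : G, w ∈ Subgroup.normalizer ((A : Subgroup G) : Set G) → w ^ 11 = 1 →
              w ∈ (A : Subgroup G) := fun w hw hw11 =>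
            hfix_mem A w hw11 (Sylow.smul_eq_iff_mem_normalizer.2 hw)
          rcases hdiv with h | h | h | h
          · exact absurd (orderOf_eq_one_iff.1 h ▸ one_mem _) htA
          · exact h
          · exact absurd (h11mem t htN (h ▸ pow_orderOf_eq_one t)) htA
          · exfalso
            have ht2A : t ^ 2 ∈ (A : Subgroup G) := h11mem _ (pow_mem htN 2)
              (by rw [← pow_mul, show 2 * 11 = orderOf t by omega, pow_orderOf_eq_one])
            have ht21 : t ^ 2 ≠ 1 := fun e => by
              have := orderOf_dvd_of_pow_eq_one e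
              rw [h] at this
              norm_num at this
            have htC : t ∈ Subgroup.centralizer ((A : Subgroup G) : Set G) := by
              rw [← hgen A _ ht2A ht21, Subgroup.mem_centralizer_iff]
              rintro _ ⟨i, rfl⟩
              exact (((Commute.refl t).pow_left 2).zpow_left i).eq
            obtain ⟨g, hg⟩ := MulAction.exists_smul_eq G A E
            have hgt : g * t * g⁻¹ ∈ (E : Subgroup G) := by
              rw [← hCE, Subgroup.mem_centralizer_iff]
              intro w hw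
              rw [← hg, SetLike.mem_coe, Sylow.coe_subgroup_smul,
                Subgroup.mem_pointwise_smul_iff_inv_smul_mem] at hw
              have hw' : g⁻¹ * w * g ∈ (A : Subgroup G) := by simpa [MulAut.smul_def] using hw
              have hh := Subgroup.mem_centralizer_iff.1 htC _ hw'
              calc w * (g * t * g⁻¹) = g * (g⁻¹ * w * g * t) * g⁻¹ := by group
                _ = g * (t * (g⁻¹ * w * g)) * g⁻¹ := by rw [hh]
                _ = g * t * g⁻¹ * w := by group
            have h11' := hpow E _ hgt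
            rw [conj_pow, conj_eq_one_iff] at h11'
            have := orderOf_dvd_of_pow_eq_one h11'
            rw [h] at this
            norm_num at this
      rw [heq, Set.ncard_sdiff (fun x hx => Subgroup.le_normalizer hx), ← Nat.card_coe_set_eq,
        ← Nat.card_coe_set_eq]
      show Nat.card (Subgroup.normalizer ((A : Subgroup G) : Set G)) - Nat.card (A : Subgroup G) = 11
      rw [(hall A).2, (hall A).1]
    have hPairs : Pairs.ncard = 132 := by
      rw [Set.ncard_eq_toFinset_card',
        Finset.card_eq_sum_card_fiberwise (f := Prod.snd) (t := Finset.univ) (fun _ _ => Finset.mem_univ _),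
        Finset.sum_const_nat (m := 11)]
      · rw [Finset.card_univ, ← Nat.card_eq_fintype_card, hn]
      intro A _
      refine Eq.trans ?_ (h11 A)
      rw [Set.ncard_eq_toFinset_card']
      refine Finset.card_bij (fun p _ => p.1) ?_ ?_ ?_
      · rintro ⟨t, B⟩ hp
        simp only [Finset.mem_filter, Set.mem_toFinset] at hp ⊢
        obtain ⟨⟨h1, h2⟩, rfl⟩ := hp
        exact ⟨h1, h2⟩
      · rintro ⟨t, B⟩ hp ⟨t', B'⟩ hq (h : t = t')
        simp only [Finset.mem_filter, Set.mem_toFinset] at hp hq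
        exact Prod.ext h (hp.2.trans hq.2.symm)
      · intro t ht
        rw [Set.mem_toFinset] at ht
        refine ⟨(t, A), ?_, rfl⟩
        simp only [Finset.mem_filter, Set.mem_toFinset]
        exact ⟨ht, trivial⟩
    have hT : T.ncard * 2 = 132 := by
      rw [← hPairs, Set.ncard_eq_toFinset_card' Pairs,
        Finset.card_eq_sum_card_fiberwise (f := Prod.fst) (t := T.toFinset) (fun p hp => by
          simp only [Finset.mem_coe, Set.mem_toFinset] at hp ⊢
          exact ⟨hp.1, p.2, hp.2⟩),
        Finset.sum_const_nat (m := 2), ← Set.ncard_eq_toFinset_card']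
      intro t ht
      rw [Set.mem_toFinset] at ht
      obtain ⟨ht2, A, hA⟩ := ht
      refine Eq.trans ?_ (htwo t ht2 A hA)
      rw [Set.ncard_eq_toFinset_card']
      refine Finset.card_bij (fun p _ => p.2) ?_ ?_ ?_
      · rintro ⟨s, B⟩ hp
        simp only [Finset.mem_filter, Set.mem_toFinset] at hp ⊢
        obtain ⟨⟨-, h2⟩, rfl⟩ := hp
        exact h2
      · rintro ⟨s, B⟩ hp ⟨s', B'⟩ hq (h : B = B')
        simp only [Finset.mem_filter, Set.mem_toFinset] at hp hq
        exact Prod.ext (hp.2.trans hq.2.symm) h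
      · intro B hB
        rw [Set.mem_toFinset] at hB
        refine ⟨(t, B), ?_, rfl⟩
        simp only [Finset.mem_filter, Set.mem_toFinset]
        exact ⟨⟨ht2, hB⟩, trivial⟩
    have hins : (insert u T).ncard = 67 := by
      rw [Set.ncard_insert_of_notMem (fun h => by obtain ⟨-, A, hA⟩ := h; exact hufree A hA)]
      omega
    rw [← hins, Set.ncard_eq_toFinset_card']
    refine Finset.card_le_card fun t ht => ?_
    rw [Set.mem_toFinset] at ht
    refine Finset.mem_filter.2 ⟨Finset.mem_univ _, ?_⟩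
    rcases ht with rfl | h
    · exact huo
    · exact h.1
  have hO1 : 1 ≤ (Finset.univ.filter fun g : G => orderOf g = 1).card :=
    Finset.card_pos.2 ⟨1, by simp⟩
  have hsumle : ∑ n ∈ ({1, 2, 3, 6, 11} : Finset ℕ),
      (Finset.univ.filter fun g : G => orderOf g = n).card ≤ Fintype.card G := by
    rw [← Finset.card_biUnion]
    · exact Finset.card_le_univ _
    · intro a _ b _ hab
      simp only [Function.onFun, Finset.disjoint_left, Finset.mem_filter]
      rintro x ⟨-, rfl⟩ ⟨-, h⟩
      exact hab h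
  rw [← Nat.card_eq_fintype_card, hG, Finset.sum_insert (by decide), Finset.sum_insert (by decide),
    Finset.sum_insert (by decide), Finset.sum_insert (by decide), Finset.sum_singleton] at hsumle
  omega

/-- The case of Sylow 3-subgroups of order 3 is impossible. -/
theorem not_order_three (hc : Ctx G) (h3 : ∀ Q : Sylow 3 G, Nat.card (Q : Subgroup G) = 3) : False := by
  classical
  have := Fintype.ofFinite (Sylow 3 G)
  haveI : Fact (Nat.Prime 3) := ⟨Nat.prime_three⟩
  obtain ⟨P⟩ := (inferInstance : Nonempty (Sylow 3 G))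
  haveI hPc : IsCyclic (P : Subgroup G) := isCyclic_of_prime_card (h3 P)
  obtain ⟨⟨z, hzP⟩, hzo⟩ := exists_prime_orderOf_dvd_card' (G := (P : Subgroup G)) 3 (by rw [h3 P])
  rw [Subgroup.orderOf_mk] at hzo
  have hz3 : z ^ 3 = 1 := hzo ▸ pow_orderOf_eq_one z
  have hzgen : Subgroup.zpowers z = (P : Subgroup G) :=
    Subgroup.eq_of_le_of_card_ge (Subgroup.zpowers_le.2 hzP) (by rw [Nat.card_zpowers, hzo, h3 P])
  have hzfix : ∀ Q : Sylow 3 G, z • Q = Q → Q = P := by
    intro Q hQ
    have hzQ : z ∈ (Q : Subgroup G) := mem_of_fix (k := 1) (by simpa using hz3) hQ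
    refine Sylow.ext ?_
    rw [← hzgen]
    exact (Subgroup.eq_of_le_of_card_ge (Subgroup.zpowers_le.2 hzQ)
      (by rw [Nat.card_zpowers, hzo, h3 Q])).symm
  set σ := MulAction.toPermHom G (Sylow 3 G) with hσ
  set C := Subgroup.centralizer ((P : Subgroup G) : Set G) with hC
  set N := Subgroup.normalizer ((P : Subgroup G) : Set G) with hN
  have h22 : Fintype.card (Sylow 3 G) = 22 := by rw [← Nat.card_eq_fintype_card, hc.n22]
  have hker := card_even_centralizer h22 (σ z) (by rw [← map_pow, hz3, map_one]) P (fun Q =>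
    ⟨fun h => hzfix Q h, fun h => h ▸ fix_of_mem hzP⟩)
  -- the centraliser
  have hCdvd : Nat.card C ∣ 3 ^ 7 * 2520 := by
    rw [← hker]
    refine Subgroup.card_dvd_of_injective
      ((σ.comp C.subtype).codRestrict (Subgroup.centralizer ({σ z} : Set _)) (fun c => ?_) |>.codRestrict _
        (fun c => ?_)) ?_
    · rw [Subgroup.mem_centralizer_singleton_iff]
      show σ (c : G) * σ z = σ z * σ (c : G)
      rw [← map_mul, ← map_mul, Subgroup.mem_centralizer_iff.1 c.2 z hzP]
    · rw [MonoidHom.mem_ker]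
      exact sign_eq_one hc (c : G)
    · intro a b h
      exact Subtype.ext (toPerm_injective hc (congrArg Subtype.val (congrArg Subtype.val h)))
  have h9 : ¬ 9 ∣ Nat.card G := by
    intro h9
    obtain ⟨H, hH⟩ := Sylow.exists_subgroup_card_pow_prime 3 (n := 2) (by simpa using h9)
    obtain ⟨Q, hQ⟩ := (IsPGroup.of_card hH).exists_le_sylow
    have := Subgroup.card_le_of_le hQ
    rw [hH, h3 Q] at this
    norm_num at this
  have hPC : (P : Subgroup G) ≤ C := Subgroup.le_centralizer_iff_isMulCommutative.2 inferInstance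
  obtain ⟨k, hk⟩ : 3 ∣ Nat.card C := h3 P ▸ Subgroup.card_dvd_of_le hPC
  have hk3 : Nat.Coprime k (3 ^ 9) := by
    refine Nat.Coprime.pow_right 9 ((Nat.prime_three.coprime_iff_not_dvd.2 fun h => h9 ?_).symm)
    obtain ⟨j, rfl⟩ := h
    exact (show 9 ∣ Nat.card C from ⟨j, by rw [hk]; ring⟩).trans (Subgroup.card_subgroup_dvd_card C)
  have hk280 : k ∣ 280 := by
    refine hk3.dvd_of_dvd_mul_left ?_
    have h1 : k ∣ Nat.card C := ⟨3, by rw [hk, mul_comm]⟩
    exact h1.trans (hCdvd.trans ⟨1, by norm_num⟩)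
  -- the normaliser
  have hCN : C ≤ N := Subgroup.centralizer_le_normalizer _
  set e := C.relIndex N with he_def
  have he : e ∣ 2 := by
    have key := Subgroup.card_dvd_of_injective _
      (QuotientGroup.kerLift_injective (P : Subgroup G).normalizerMonoidHom)
    rw [Subgroup.normalizerMonoidHom_ker, ← Subgroup.index, ← Subgroup.relIndex, hPc.card_mulAut,
      h3 P, Nat.totient_prime Nat.prime_three] at key
    exact key
  have hNP : Nat.card N = 3 * k * e := by
    rw [← Subgroup.relIndex_bot_left N, ← Subgroup.relIndex_mul_relIndex ⊥ C N bot_le hCN,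
      Subgroup.relIndex_bot_left, hk]
  have h11 : ¬ 11 ∣ Nat.card N := by
    intro h
    rw [hNP] at h
    have : 3 * k * e ∣ 3 * 280 * 2 := Nat.mul_dvd_mul (Nat.mul_dvd_mul_left 3 hk280) he
    have := h.trans this
    norm_num at this
  obtain ⟨E, d, hd, hE, hNE, hCE, hn, hmod⟩ := eleven hc P h11
  rw [← hN, hNP] at hn
  rcases one_arith k e d hk280 he hd _ (by rw [hn]; ring) hmod with h35 | ⟨h12, hke⟩
  · exact not_thirtyfive hc P (h3 P) hzP hz3 hzfix k hk hk280 h35
  · exact not_twelve hc P (h3 P) E d k e hd hE hNE hCE h12 hk hNP he hke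

end Cfsg.Agent.Fg24.TwentyTwo
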